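import Cfsg.Agent.Lib.Recog.CoOneFive.Defs
import Mathlib.GroupTheory.SpecificGroups.Alternating

/-!
Finite facts about an element of order five with a four-dimensional fixed space in the isometry group of the
eight-dimensional form of plus type over two elements (owner: helper4; on the model of helper12).
-/

set_option autoImplicit false
set_option maxRecDepth 100000
set_option Elab.async false

namespace CfsgLib.Recog.CoOneFive

open CfsgLib.Recog.CoOneType

theorem span_eq : ∀ s, span s = (List.range 256).filter fun n => (basis (!s)).all fun m => !bb n m := by
  decide +kernel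

theorem five_eq : ∀ s, five s = (span s).filter fun n => !(n == 0) && !qb n := by decide +kernel

theorem basis_lt : ∀ s, ∀ n ∈ basis s, n < 256 ∧ n ∈ span s := by decide +kernel

theorem five_len : ∀ s, (five s).length = 5 ∧ (five s).Nodup ∧ (span s).length = 16 ∧ (span s).Nodup := by
  decide +kernel

theorem rows0_ok : rows0.all (rowOK false) = true := by decide +kernel

theorem rows1_ok : rows1.all (rowOK true) = true := by decide +kernel

theorem even_len : ∀ s, (even s).length = 60 ∧ (even s).Nodup := by decide +kernel

theorem cand_split : ∀ s, (cand s).all (fun A => (even s).contains A || (odd s).contains A) = true := by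
  decide +kernel

theorem oddVec_ok : ∀ s, oddVec s ∈ span s ∧ qb (oddVec s) = true := by decide +kernel

theorem imgs_sign : ∀ s, ∀ σ : Equiv.Perm (Fin 5),
    (imgs s).contains (List.ofFn fun i => ((σ i : Fin 5) : Nat)) = decide (Equiv.Perm.sign σ = 1) := by
  decide +kernel

theorem imgs_alt : ∀ s, ∀ r ∈ imgs s, ∃ σ : alternatingGroup (Fin 5),
    List.ofFn (fun i => (((σ : Equiv.Perm (Fin 5)) i : Fin 5) : Nat)) = r := by
  decide +kernel

theorem fives_sub : ∀ E ∈ even true, E ≠ one → pw E 5 = one → E ∈ fives := by decide +kernel

theorem five_commutant : (cand true).all (fun A => fives.all fun E =>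
    !((basis true).all fun n => app A (app E n) == app E (app A n)) ||
      A == one || A == E || A == pw E 2 || A == pw E 3 || A == pw E 4) = true := by decide +kernel

theorem five_onto : fives.all (fun E => (span true).all fun u =>
    (u == 0 || !(app E u == u)) && (span true).any fun w => u == w ^^^ app E w) = true := by decide +kernel

theorem functional : ∀ b1 b2 b3 b4 : Bool, (span false).any (fun w =>
    bb w 1 == b1 && bb w 2 == b2 && bb w 12 == b3 && bb w 52 == b4) = true := by decide +kernel

theorem shift_two : (List.range 256).all (fun n => qb n || !bb n 1 ||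
    app (rho (n &&& 252)) 2 == n) = true := by decide +kernel

theorem shift_plane : (List.range 256).all (fun n => qb n || !bb n 1 || bb n 12 || bb n 52 ||
    (span true).contains (n &&& 252)) = true := by decide +kernel

theorem rho_plane : (span true).all (fun v => fixB (rho v) 1 && fixB (rho v) 12 && fixB (rho v) 52) = true := by
  decide +kernel

theorem rho_twelve : fixB (rho 12) 28 && fixB (rho 12) 44 && fixB (rho 12) 64 && fixB (rho 12) 128 &&
    (five false).any (fun n => !(app (rho 12) n == n)) = true := by decide +kernel

theorem mid_two : midSylow.all (fun a => a.1 == one || [4, 8, 16, 32, 64, 128].any fun i =>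
    [4, 8, 16, 32, 64, 128].any fun j =>
      !bb (app a.1 i) 1 && !bb (app a.1 j) 1 && !((app a.1 i ^^^ i) &&& 252 == 0) &&
        !((app a.1 j ^^^ j) &&& 252 == 0) &&
        !((app a.1 i ^^^ i) &&& 252 == (app a.1 j ^^^ j) &&& 252)) = true := by decide +kernel

theorem rho_two : sect.all (fun v => v == 0 || [4, 8, 16, 32, 64, 128].any fun i =>
    !((app (rho v) 2 ^^^ 2) == 0) && !((app (rho v) i ^^^ i) == 0) &&
      !((app (rho v) 2 ^^^ 2) == (app (rho v) i ^^^ i))) = true := by decide +kernel

theorem planes0_ok : planes0.all planeOK = true := by decide +kernel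

theorem planes1_ok : planes1.all planeOK = true := by decide +kernel

theorem planes2_ok : planes2.all planeOK = true := by decide +kernel

theorem planes3_ok : planes3.all planeOK = true := by decide +kernel

theorem planes_cover : (planes.map fun r => r.1) =
    sect.flatMap fun a => (sect.filter fun b => qb a && qb b && bb a b).map fun b => (a, b) := by decide +kernel

theorem alt_commutator : ∀ a : alternatingGroup (Fin 5), ∃ b c : alternatingGroup (Fin 5),
    b * c * b⁻¹ * c⁻¹ = a := by decide +kernel

end CfsgLib.Recog.CoOneFive
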