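import Cfsg.Agent.Lib.Recog.CoOneType.Frame
import Cfsg.Agent.Lib.Recog.CoOneFive.Data
import Cfsg.Agent.Lib.Recog.CoOneType.Create

/-!
Elementary facts on the adapted basis (owner: helper4).
-/

set_option autoImplicit false
set_option maxRecDepth 100000
set_option Elab.async false

namespace CfsgLib.Recog.CoOneFive

open CfsgLib.Recog.CoOneType

theorem one_lt : ∀ n ∈ one, n < 256 := by decide

theorem bb_two_one : bb 2 1 = true := by decide

/-- The adapted basis. -/
def allBasis : List Nat := [1, 2, 12, 52, 28, 44, 64, 128]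

theorem mem_allBasis {s : Bool} {n : Nat} (h : n ∈ basis s) : n ∈ allBasis := by
  revert n; revert s; decide

theorem allBasis_cases {n : Nat} (h : n ∈ allBasis) : n ∈ basis false ∨ n ∈ basis true := by
  revert n; decide

theorem ext_adapted {A B : List Nat} (hA : A.length = 8) (hB : B.length = 8)
    (h : ∀ n ∈ allBasis, app A n = app B n) : A = B := by
  refine eq_of_app hA hB fun n hn => ?_
  simp only [allBasis, List.mem_cons, List.not_mem_nil, or_false, forall_eq_or_imp, forall_eq] at h
  obtain ⟨h1, h2, h3, h4, h5, h6, h7, h8⟩ := h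
  simp only [one, List.mem_cons, List.not_mem_nil, or_false] at hn
  rcases hn with rfl | rfl | rfl | rfl | rfl | rfl | rfl | rfl
  · exact h1
  · exact h2
  · rw [show (4 : Nat) = 52 ^^^ (28 ^^^ 44) from rfl, app_xor, app_xor, app_xor, app_xor, h4, h5, h6]
  · rw [show (8 : Nat) = 12 ^^^ (52 ^^^ (28 ^^^ 44)) from rfl, app_xor, app_xor, app_xor, app_xor, app_xor,
      app_xor, h3, h4, h5, h6]
  · rw [show (16 : Nat) = 28 ^^^ 12 from rfl, app_xor, app_xor, h5, h3]
  · rw [show (32 : Nat) = 44 ^^^ 12 from rfl, app_xor, app_xor, h6, h3]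
  · exact h7
  · exact h8

theorem app_mk (a b c d e f g h : Nat) :
    (app (mk a b c d e f g h) 1 = a ∧ app (mk a b c d e f g h) 2 = b) ∧
      (app (mk a b c d e f g h) 12 = c ∧ app (mk a b c d e f g h) 52 = d) ∧
      (app (mk a b c d e f g h) 28 = e ∧ app (mk a b c d e f g h) 44 = f) ∧
      (app (mk a b c d e f g h) 64 = g ∧ app (mk a b c d e f g h) 128 = h) := by
  have x1 : ∀ u v : Nat, u ^^^ (v ^^^ u) = v := fun u v => by
    rw [Nat.xor_comm v u, ← Nat.xor_assoc, Nat.xor_self, Nat.zero_xor]
  simp [app, term, mk, Nat.testBit, Nat.shiftRight_eq_div_pow, Nat.xor_comm, Nat.xor_left_comm, Nat.xor_assoc]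

theorem length_mk (a b c d e f g h : Nat) : (mk a b c d e f g h).length = 8 := rfl

theorem span_gen : ∀ s, ∀ n ∈ span s, ∃ i1 i2 i3 i4 : Bool,
    n = (bif i1 then (basis s).getD 0 0 else 0) ^^^ ((bif i2 then (basis s).getD 1 0 else 0) ^^^
      ((bif i3 then (basis s).getD 2 0 else 0) ^^^ (bif i4 then (basis s).getD 3 0 else 0))) := by
  decide +kernel

/-- A set closed under addition that contains a basis of a side contains the side. -/
theorem span_subset {P : Nat → Prop} {s : Bool} (h0 : P 0) (hx : ∀ a b, P a → P b → P (a ^^^ b))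
    (hb : ∀ n ∈ basis s, P n) {n : Nat} (hn : n ∈ span s) : P n := by
  obtain ⟨i1, i2, i3, i4, rfl⟩ := span_gen s n hn
  have hg : ∀ (i : Bool) (j : Nat), j < 4 → P (bif i then (basis s).getD j 0 else 0) := by
    intro i j hj
    cases i
    · exact h0
    · refine hb _ ?_
      rw [List.getD_eq_getElem _ _ (by cases s <;> exact hj)]
      exact List.getElem_mem _
  exact hx _ _ (hg i1 0 (by norm_num)) (hx _ _ (hg i2 1 (by norm_num))
    (hx _ _ (hg i3 2 (by norm_num)) (hg i4 3 (by norm_num))))

theorem full_split : ∀ n < 256, (List.range 256).contains n = true ∧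
    (span false).any (fun w => (span true).contains (n ^^^ w)) = true := by decide +kernel

/-- A property closed under addition that holds on the adapted basis holds everywhere. -/
theorem full_induction {P : Nat → Prop} (h0 : P 0) (hx : ∀ a b, P a → P b → P (a ^^^ b))
    (hb : ∀ n ∈ allBasis, P n) {n : Nat} (hn : n < 256) : P n := by
  obtain ⟨w, hw, hu⟩ := List.any_eq_true.1 (full_split n hn).2
  have h1 : P w := span_subset h0 hx (fun m hm => hb m (mem_allBasis hm)) hw
  have h2 : P (n ^^^ w) := span_subset h0 hx (fun m hm => hb m (mem_allBasis hm)) (List.contains_iff_mem.1 hu)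
  have := hx _ _ h2 h1
  rwa [Nat.xor_assoc, Nat.xor_self, Nat.xor_zero] at this

/-- The decidable condition on a basis. -/
def gramB (A : List Nat) : Bool :=
  A.length == 8 && allBasis.all fun i => decide (app A i < 256) && (qb (app A i) == qb i) &&
    allBasis.all fun j => bb (app A i) (app A j) == bb i j

theorem bb_zero_left (c : Nat) : bb 0 c = false := by rw [bb_comm, bb_zero]

/-- Isometries are recognised on the basis. -/
theorem iso_of_gram {A : List Nat} (h : gramB A = true) : Iso A := by
  simp only [gramB, Bool.and_eq_true, beq_iff_eq, List.all_eq_true, decide_eq_true_eq] at h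
  obtain ⟨hl, hb⟩ := h
  have h1 : ∀ a < 256, ∀ j ∈ allBasis, bb (app A a) (app A j) = bb a j := by
    intro a ha j hj
    refine full_induction (P := fun a => bb (app A a) (app A j) = bb a j) ?_ (fun x y e1 e2 => ?_)
      (fun i hi => (hb i hi).2 j hj) ha
    · rw [app_zero, bb_zero_left, bb_zero_left]
    · rw [app_xor, bb_xor_left, bb_xor_left, e1, e2]
  have h2 : ∀ b < 256, ∀ a < 256, bb (app A a) (app A b) = bb a b := by
    intro b hb' a ha
    refine full_induction (P := fun b => bb (app A a) (app A b) = bb a b) ?_ (fun x y e1 e2 => ?_)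
      (fun j hj => h1 a ha j hj) hb'
    · rw [app_zero, bb_zero, bb_zero]
    · rw [app_xor, bb_xor_right, bb_xor_right, e1, e2]
  refine ⟨hl, fun n hn => ?_⟩
  have key := full_induction (P := fun n => n < 256 ∧ app A n < 256 ∧ qb (app A n) = qb n) (n := n)
    ⟨by norm_num, by rw [app_zero]; norm_num, by rw [app_zero]⟩
    (fun x y ex ey => ⟨lt_xor ex.1 ey.1, by rw [app_xor]; exact lt_xor ex.2.1 ey.2.1, by
      rw [app_xor, qb_xor, qb_xor, h2 y ey.1 x ex.1, ex.2.2, ey.2.2]⟩)
    (fun i hi => ⟨by revert i; decide, (hb i hi).1.1, (hb i hi).1.2⟩) hn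
  exact ⟨key.2.1, key.2.2⟩

theorem rho_gram : sect.all (fun v => gramB (rho v) && fixB (rho v) 1) = true := by decide +kernel

theorem rho_square : sect.all (fun v => comp (rho v) (rho v) == one) = true := by decide +kernel

theorem rho_props {v : Nat} (hv : v ∈ sect) : Iso (rho v) ∧ comp (rho v) (rho v) = one ∧ app (rho v) 1 = 1 := by
  have h1 := List.all_eq_true.1 rho_gram v hv
  simp only [Bool.and_eq_true, fixB, beq_iff_eq] at h1
  exact ⟨iso_of_gram h1.1, beq_iff_eq.1 (List.all_eq_true.1 rho_square v hv), h1.2⟩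

theorem mem_span {s : Bool} {n : Nat} : n ∈ span s ↔ n < 256 ∧ ∀ m ∈ basis (!s), bb n m = false := by
  rw [span_eq]
  simp [List.mem_filter, List.mem_range]

theorem span_perp {s : Bool} {a b : Nat} (ha : a ∈ span s) (hb : b ∈ span (!s)) : bb a b = false := by
  refine span_subset (P := fun b => bb a b = false) (bb_zero a) (fun x y e1 e2 => ?_) ((mem_span.1 ha).2) hb
  rw [bb_xor_right, e1, e2]; rfl

theorem mem_five {s : Bool} {n : Nat} : n ∈ five s ↔ n ∈ span s ∧ n ≠ 0 ∧ qb n = false := by
  rw [five_eq]
  simp [List.mem_filter]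

/-- The singular nonzero vectors. -/
def sing : List Nat := (List.range 256).filter fun n => !(n == 0) && !qb n

theorem sing_len : sing.length = 135 ∧ sing.Nodup := by decide +kernel

theorem mem_sing {n : Nat} : n ∈ sing ↔ n < 256 ∧ n ≠ 0 ∧ qb n = false := by
  simp [sing, List.mem_filter, List.mem_range]

theorem exists_out {l : List Nat} (hl : l.Nodup) (ex : List Nat) (h : ex.length < l.length) :
    ∃ n ∈ l, n ∉ ex := by
  by_contra hc
  push Not at hc
  exact absurd (hl.subperm hc).length_le (not_le.2 h)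

theorem and_three : ∀ n < 256, n = (n &&& 252) ^^^ (n &&& 3) ∧ n &&& 3 ∈ [0, 1, 2, 3] := by decide +kernel

end CfsgLib.Recog.CoOneFive
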