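import Cfsg.Agent.Lib.Recog.CoOneType.Sylow
import Cfsg.Agent.Lib.Recog.CoOneFive.Basics

/-!
Change of coordinates and fibres of the coordinate map (owner: helper4).
-/

set_option autoImplicit false
set_option linter.unusedSectionVars false
set_option linter.unusedVariables false

namespace CfsgLib.Recog.CoOneFive

open CfsgLib.Recog.CoOneType CfsgLib.ThreeTrans

variable {G : Type*} [Group G] [Finite G] {z : G} {Q : Subgroup G} {p : G → Nat}

theorem app_of_comp {S T : List Nat} (hT : T.length = 8) (h : comp S T = one) {n : Nat} (hn : n < 256) :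
    app S (app T n) = n := by
  rw [← app_comp hT, h, app_one n hn]

theorem comp_app_congr {A B : List Nat} (hA : A.length = 8) (hB : B.length = 8)
    (h : ∀ n < 256, app A n = app B n) : A = B :=
  eq_of_app hA hB fun n hn => h n (one_lt n hn)

/-- New coordinates by an isometry. -/
theorem sys_change (h : Sys z Q p) {S T : List Nat} (hS : Iso S) (hT : Iso T) (hST : comp S T = one)
    (hTS : comp T S = one) : Sys z Q (fun a => app T (p a)) := by
  refine ⟨h.large, h.card, h.cardC, fun a ha => (hT.2 _ (h.lt a ha)).1, fun n hn => ?_, fun a ha b hb => ?_,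
    fun a ha e => ?_, by rw [h.z0, app_zero], fun a ha => ?_, fun d e hd he h1 h2 h3 => ?_⟩
  · obtain ⟨a, ha, e⟩ := h.surj _ (hS.2 n hn).1
    exact ⟨a, ha, by simp only [e, app_of_comp hS.1 hTS hn]⟩
  · simp only [h.map_mul a ha b hb, app_xor]
  · refine h.ker a ha ?_
    have e' : app S (app T (p a)) = app S 0 := congrArg (app S) e
    rwa [app_of_comp hT.1 hST (h.lt a ha), app_zero] at e'
  · rw [(hT.2 _ (h.lt a ha)).2, h.sq a ha]
  · obtain ⟨hSd, hqd⟩ := hS.2 d hd
    obtain ⟨hSe, hqe⟩ := hS.2 e he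
    obtain ⟨c, hc, hca⟩ := h.gen _ _ hSd hSe (hqd.trans h1) (hqe.trans h2) ((hS.bb_app hd he).trans h3)
    have key : ∀ x < 256, ∀ n < 256, app T (rf (app S x) n) = rf x (app T n) := by
      intro x hx n hn
      have e1 : bb (app T n) x = bb n (app S x) := by
        have := hT.bb_app hn (hS.2 x hx).1
        rwa [app_of_comp hS.1 hTS hx] at this
      unfold rf
      rw [e1, app_xor]
      cases bb n (app S x)
      · simp [app_zero]
      · simp [app_of_comp hS.1 hTS hx]
    refine ⟨c, hc, fun a ha => ?_⟩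
    have hlt := h.lt a ha
    have hlt' := (hT.2 _ hlt).1
    show app T (p (c * a * c⁻¹)) = _
    rw [hca a ha, app_comp (length_refl _), app_comp (length_refl _), app_refl hlt, app_refl (rf_lt hSe hlt),
      app_refl hlt', app_refl (rf_lt he hlt'), key d hd _ (rf_lt hSe hlt), key e he _ hlt]

/-- New coordinates by an induced map. -/
theorem sys_induced (h : Sys z Q p) {c : G} {A : List Nat} (hA : Iso A) (hc : Acts z Q p c A) :
    Sys z Q (fun a => app A (p a)) := by
  obtain ⟨S, hS, hSc⟩ := h.exists_acts hc.1.inv_left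
  refine sys_change h hS hA ?_ ?_
  · refine h.acts_unique (by rw [length_comp, hA.1]) rfl ?_ h.acts_one
    have := h.acts_mul hA.1 hSc hc
    rwa [inv_mul_cancel] at this
  · refine h.acts_unique (by rw [length_comp, hS.1]) rfl ?_ h.acts_one
    have := h.acts_mul hS.1 hc hSc
    rwa [mul_inv_cancel] at this

/-- The size of the preimage of a set of numbers. -/
theorem card_fibre (h : Sys z Q p) {l : List Nat} (hl : l.Nodup) (hlt : ∀ n ∈ l, n < 256) :
    Nat.card {a : G // a ∈ Q ∧ p a ∈ l} = 2 * l.length := by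
  classical
  choose r hrQ hrp using fun n (hn : n < 256) => h.surj n hn
  let f : Fin l.length × Bool → {a : G // a ∈ Q ∧ p a ∈ l} := fun x =>
    ⟨r _ (hlt _ (List.getElem_mem x.1.2)) * sg z x.2, Q.mul_mem (hrQ _ _) (h.sg_mem _), by
      rw [h.map_mul _ (hrQ _ _) _ (h.sg_mem _), h.p_sg, Nat.xor_zero, hrp]
      exact List.getElem_mem x.1.2⟩
  have hf : Function.Bijective f := by
    constructor
    · rintro ⟨i, b⟩ ⟨j, b'⟩ e
      have e' : r _ (hlt _ (List.getElem_mem i.2)) * sg z b = r _ (hlt _ (List.getElem_mem j.2)) * sg z b' :=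
        congrArg Subtype.val e
      have e2 := congrArg p e'
      rw [h.map_mul _ (hrQ _ _) _ (h.sg_mem _), h.map_mul _ (hrQ _ _) _ (h.sg_mem _), h.p_sg, h.p_sg,
        Nat.xor_zero, Nat.xor_zero, hrp, hrp] at e2
      obtain rfl : i = j := Fin.ext ((List.Nodup.getElem_inj_iff hl).1 e2)
      obtain rfl := h.sg_inj (mul_left_cancel e')
      rfl
    · rintro ⟨a, ha, hpa⟩
      obtain ⟨i, hi, e⟩ := List.getElem_of_mem hpa
      obtain ⟨b, e'⟩ := h.eq_of_p (hrQ _ (hlt _ (List.getElem_mem hi))) ha ((hrp _ _).trans e)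
      exact ⟨⟨⟨i, hi⟩, b⟩, Subtype.ext e'.symm⟩
  rw [← Nat.card_eq_of_bijective f hf, Nat.card_prod, Nat.card_fin, Nat.card_eq_fintype_card, Fintype.card_bool,
    mul_comm]

/-- Noncentral involutions of `Q` are conjugate in `C(z)`. -/
theorem inner_trans (h : Sys z Q p) {a b : G} (ha : a ∈ Q) (haa : a * a = 1) (ha1 : a ≠ 1) (haz : a ≠ z)
    (hb : b ∈ Q) (hbb : b * b = 1) (hb1 : b ≠ 1) (hbz : b ≠ z) : ∃ c : G, Commute c z ∧ c * a * c⁻¹ = b := by
  obtain ⟨c, hc, hca⟩ := h.to_one ha haa ha1 haz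
  obtain ⟨d, hd, hdb⟩ := h.to_one hb hbb hb1 hbz
  have h1 := h.large.conj_mem hc ha
  have h2 := h.large.conj_mem hd hb
  obtain ⟨i, e⟩ := h.eq_of_p h1 h2 (hca.trans hdb.symm)
  obtain ⟨q, hq, hq2⟩ := h.surj 2 (by norm_num)
  have key : ∃ w ∈ Q, w * (c * a * c⁻¹) * w⁻¹ = d * b * d⁻¹ := by
    cases i
    · exact ⟨1, one_mem _, by rw [e, show sg z false = 1 from rfl]; group⟩
    · exact ⟨q, hq, by rw [h.conj_eq h1 hq, hq2, hca, show bb 2 1 = true from bb_two_one, e]⟩
  obtain ⟨w, hw, ew⟩ := key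
  refine ⟨d⁻¹ * w * c, (hd.inv_left.mul_left (h.large.commute_z hw)).mul_left hc, ?_⟩
  rw [show d⁻¹ * w * c * a * (d⁻¹ * w * c)⁻¹ = d⁻¹ * (w * (c * a * c⁻¹) * w⁻¹) * d by group, ew]
  group

end CfsgLib.Recog.CoOneFive
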