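import Cfsg.Agent.Lib.Recog.CoOneFive.Basics

/-!
The isometries fixing one side pointwise (owner: helper4).
-/

set_option autoImplicit false
set_option maxRecDepth 100000
set_option Elab.async false

namespace CfsgLib.Recog.CoOneFive

open CfsgLib.Recog.CoOneType

theorem getD_mem {s : Bool} {j : Nat} (hj : j < 4) : (basis s).getD j 0 ∈ basis s := by
  rw [List.getD_eq_getElem _ _ (by cases s <;> exact hj)]
  exact List.getElem_mem _

theorem length_mkSide (s : Bool) (a b c d : Nat) : (mkSide s a b c d).length = 8 := by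
  cases s <;> exact length_mk _ _ _ _ _ _ _ _

theorem app_mkSide (s : Bool) (a b c d : Nat) : (∀ n ∈ basis (!s), app (mkSide s a b c d) n = n) ∧
    app (mkSide s a b c d) ((basis s).getD 0 0) = a ∧ app (mkSide s a b c d) ((basis s).getD 1 0) = b ∧
    app (mkSide s a b c d) ((basis s).getD 2 0) = c ∧ app (mkSide s a b c d) ((basis s).getD 3 0) = d := by
  cases s
  · obtain ⟨⟨m1, m2⟩, ⟨m3, m4⟩, ⟨m5, m6⟩, ⟨m7, m8⟩⟩ := app_mk a b c d 28 44 64 128
    refine ⟨fun n hn => ?_, m1, m2, m3, m4⟩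
    simp only [Bool.not_false, basis, List.mem_cons, List.not_mem_nil, or_false] at hn
    rcases hn with rfl | rfl | rfl | rfl
    exacts [m5, m6, m7, m8]
  · obtain ⟨⟨m1, m2⟩, ⟨m3, m4⟩, ⟨m5, m6⟩, ⟨m7, m8⟩⟩ := app_mk 1 2 12 52 a b c d
    refine ⟨fun n hn => ?_, m5, m6, m7, m8⟩
    simp only [Bool.not_true, basis, List.mem_cons, List.not_mem_nil, or_false] at hn
    rcases hn with rfl | rfl | rfl | rfl
    exacts [m1, m2, m3, m4]

theorem getD_cases {s : Bool} {n : Nat} (hn : n ∈ basis s) :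
    n = (basis s).getD 0 0 ∨ n = (basis s).getD 1 0 ∨ n = (basis s).getD 2 0 ∨ n = (basis s).getD 3 0 := by
  cases s <;> simp only [basis, List.mem_cons, List.not_mem_nil, or_false] at hn <;> exact hn

theorem mem_cand_iff {s : Bool} {A : List Nat} : A ∈ cand s ↔ ∃ a b c d,
    (a ∈ span s ∧ qb a = qb ((basis s).getD 0 0)) ∧
    (b ∈ span s ∧ qb b = qb ((basis s).getD 1 0) ∧ bb a b = bb ((basis s).getD 0 0) ((basis s).getD 1 0)) ∧
    (c ∈ span s ∧ (qb c = qb ((basis s).getD 2 0) ∧ bb a c = bb ((basis s).getD 0 0) ((basis s).getD 2 0)) ∧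
      bb b c = bb ((basis s).getD 1 0) ((basis s).getD 2 0)) ∧
    (d ∈ span s ∧ ((qb d = qb ((basis s).getD 3 0) ∧ bb a d = bb ((basis s).getD 0 0) ((basis s).getD 3 0)) ∧
      bb b d = bb ((basis s).getD 1 0) ((basis s).getD 3 0)) ∧
      bb c d = bb ((basis s).getD 2 0) ((basis s).getD 3 0)) ∧
    mkSide s a b c d = A := by
  simp only [cand, List.mem_flatMap, List.mem_map, List.mem_filter, Bool.and_eq_true, beq_iff_eq]
  constructor
  · rintro ⟨a, ha, b, hb, c, hc, d, hd, e⟩
    exact ⟨a, b, c, d, ha, hb, hc, hd, e⟩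
  · rintro ⟨a, b, c, d, ha, hb, hc, hd, e⟩
    exact ⟨a, ha, b, hb, c, hc, d, hd, e⟩

theorem cand_spec {s : Bool} {A : List Nat} (h : A ∈ cand s) :
    Iso A ∧ ∀ n ∈ span (!s), app A n = n := by
  obtain ⟨a, b, c, d, ⟨ha, qa⟩, ⟨hb, qb', hab⟩, ⟨hc, ⟨qc, hac⟩, hbc⟩, ⟨hd, ⟨⟨qd, had⟩, hbd⟩, hcd⟩, rfl⟩ :=
    mem_cand_iff.1 h
  obtain ⟨hfix, i0, i1, i2, i3⟩ := app_mkSide s a b c d
  set A := mkSide s a b c d with hA
  have hl : A.length = 8 := length_mkSide s a b c d
  have hin : ∀ i ∈ basis s, app A i ∈ span s ∧ qb (app A i) = qb i ∧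
      ∀ j ∈ basis s, bb (app A i) (app A j) = bb i j := by
    have sw : ∀ {u v x y : Nat}, bb u v = bb x y → bb v u = bb y x := fun h => by
      rw [bb_comm _ _, h, bb_comm]
    have slt : ∀ {u : Nat}, u ∈ span s → bb u u = false := fun hu => bb_self _ (mem_span.1 hu).1
    have blt : ∀ j, j < 4 → bb ((basis s).getD j 0) ((basis s).getD j 0) = false := fun j hj =>
      bb_self _ (basis_lt s _ (getD_mem hj)).1
    intro i hi
    rcases getD_cases hi with rfl | rfl | rfl | rfl
    · rw [i0]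
      refine ⟨ha, qa, fun j hj => ?_⟩
      rcases getD_cases hj with rfl | rfl | rfl | rfl
      · rw [i0, slt ha, blt 0 (by norm_num)]
      · rw [i1, hab]
      · rw [i2, hac]
      · rw [i3, had]
    · rw [i1]
      refine ⟨hb, qb', fun j hj => ?_⟩
      rcases getD_cases hj with rfl | rfl | rfl | rfl
      · rw [i0, sw hab]
      · rw [i1, slt hb, blt 1 (by norm_num)]
      · rw [i2, hbc]
      · rw [i3, hbd]
    · rw [i2]
      refine ⟨hc, qc, fun j hj => ?_⟩
      rcases getD_cases hj with rfl | rfl | rfl | rfl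
      · rw [i0, sw hac]
      · rw [i1, sw hbc]
      · rw [i2, slt hc, blt 2 (by norm_num)]
      · rw [i3, hcd]
    · rw [i3]
      refine ⟨hd, qd, fun j hj => ?_⟩
      rcases getD_cases hj with rfl | rfl | rfl | rfl
      · rw [i0, sw had]
      · rw [i1, sw hbd]
      · rw [i2, sw hcd]
      · rw [i3, slt hd, blt 3 (by norm_num)]
  have side : ∀ i ∈ allBasis, i ∈ basis s ∨ i ∈ basis (!s) := fun i hi => by
    cases s
    · exact allBasis_cases hi
    · exact (allBasis_cases hi).symm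
  refine ⟨iso_of_gram ?_, fun n hn => span_subset (P := fun n => app A n = n) (app_zero A)
    (fun x y ex ey => by rw [app_xor, ex, ey]) hfix hn⟩
  simp only [gramB, Bool.and_eq_true, beq_iff_eq, List.all_eq_true, decide_eq_true_eq]
  refine ⟨hl, fun i hi => ?_⟩
  rcases side i hi with h' | h'
  · obtain ⟨hsp, hq, hbb⟩ := hin i h'
    refine ⟨⟨(mem_span.1 hsp).1, hq⟩, fun j hj => ?_⟩
    rcases side j hj with j' | j'
    · exact hbb j j'
    · rw [hfix j j', (mem_span.1 hsp).2 j j', (mem_span.1 (basis_lt s i h').2).2 j j']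
  · rw [hfix i h']
    refine ⟨⟨(basis_lt _ i h').1, rfl⟩, fun j hj => ?_⟩
    rcases side j hj with j' | j'
    · rw [bb_comm, bb_comm i j, (mem_span.1 (hin j j').1).2 i h', (mem_span.1 (basis_lt s j j').2).2 i h']
    · rw [hfix j j']

theorem mkSide_mem {s : Bool} {A : List Nat} (hA : Iso A) (hp : ∀ n ∈ basis s, app A n ∈ span s) :
    mkSide s (app A ((basis s).getD 0 0)) (app A ((basis s).getD 1 0)) (app A ((basis s).getD 2 0))
      (app A ((basis s).getD 3 0)) ∈ cand s := by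
  have hlt : ∀ j, j < 4 → (basis s).getD j 0 < 256 := fun j hj => (basis_lt s _ (getD_mem hj)).1
  have q : ∀ j, j < 4 → qb (app A ((basis s).getD j 0)) = qb ((basis s).getD j 0) := fun j hj =>
    (hA.2 _ (hlt j hj)).2
  have b : ∀ i j, i < 4 → j < 4 → bb (app A ((basis s).getD i 0)) (app A ((basis s).getD j 0)) =
      bb ((basis s).getD i 0) ((basis s).getD j 0) := fun i j hi hj => hA.bb_app (hlt i hi) (hlt j hj)
  exact mem_cand_iff.2 ⟨_, _, _, _, ⟨hp _ (getD_mem (by norm_num)), q 0 (by norm_num)⟩,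
    ⟨hp _ (getD_mem (by norm_num)), q 1 (by norm_num), b 0 1 (by norm_num) (by norm_num)⟩,
    ⟨hp _ (getD_mem (by norm_num)), ⟨q 2 (by norm_num), b 0 2 (by norm_num) (by norm_num)⟩,
      b 1 2 (by norm_num) (by norm_num)⟩,
    ⟨hp _ (getD_mem (by norm_num)), ⟨⟨q 3 (by norm_num), b 0 3 (by norm_num) (by norm_num)⟩,
      b 1 3 (by norm_num) (by norm_num)⟩, b 2 3 (by norm_num) (by norm_num)⟩, rfl⟩

theorem mem_cand {s : Bool} {A : List Nat} (hA : Iso A) (hfix : ∀ n ∈ basis (!s), app A n = n) : A ∈ cand s := by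
  have hp : ∀ n ∈ basis s, app A n ∈ span s := fun n hn => by
    refine mem_span.2 ⟨(hA.2 n (basis_lt s n hn).1).1, fun m hm => ?_⟩
    have e := hA.bb_app (basis_lt s n hn).1 (basis_lt _ m hm).1
    rw [hfix m hm] at e
    rw [e, (mem_span.1 (basis_lt s n hn).2).2 m hm]
  obtain ⟨hfix', i0, i1, i2, i3⟩ := app_mkSide s (app A ((basis s).getD 0 0)) (app A ((basis s).getD 1 0))
    (app A ((basis s).getD 2 0)) (app A ((basis s).getD 3 0))
  have e : A = mkSide s (app A ((basis s).getD 0 0)) (app A ((basis s).getD 1 0)) (app A ((basis s).getD 2 0))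
      (app A ((basis s).getD 3 0)) := by
    refine ext_adapted hA.1 (length_mkSide _ _ _ _ _) fun n hn => ?_
    have side : n ∈ basis s ∨ n ∈ basis (!s) := by
      cases s
      · exact allBasis_cases hn
      · exact (allBasis_cases hn).symm
    rcases side with h | h
    · rcases getD_cases h with rfl | rfl | rfl | rfl
      exacts [i0.symm, i1.symm, i2.symm, i3.symm]
    · rw [hfix n h, hfix' n h]
  rw [e]
  exact mkSide_mem hA hp

/-- Maps of the two sides commute. -/
theorem cross_comm {A E : List Nat} (hA : A ∈ cand false) (hE : E ∈ cand true) : comp A E = comp E A := by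
  obtain ⟨hAI, hAf⟩ := cand_spec hA
  obtain ⟨hEI, hEf⟩ := cand_spec hE
  refine ext_adapted (by rw [length_comp, hEI.1]) (by rw [length_comp, hAI.1]) fun n hn => ?_
  rw [app_comp hEI.1, app_comp hAI.1]
  have img : ∀ {s : Bool} {A : List Nat}, Iso A → (∀ m ∈ span (!s), app A m = m) → ∀ n ∈ basis s,
      app A n ∈ span s := fun {s A} hI hf n hn => by
    refine mem_span.2 ⟨(hI.2 n (basis_lt s n hn).1).1, fun m hm => ?_⟩
    have e := hI.bb_app (basis_lt s n hn).1 (basis_lt _ m hm).1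
    rw [hf m (basis_lt _ m hm).2] at e
    rw [e, (mem_span.1 (basis_lt s n hn).2).2 m hm]
  rcases allBasis_cases hn with h | h
  · rw [hEf n (basis_lt _ n h).2, hEf _ (img (s := false) hAI hAf n h)]
  · rw [hAf n (basis_lt _ n h).2, hAf _ (img (s := true) hEI hEf n h)]

end CfsgLib.Recog.CoOneFive
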