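import Cfsg.Agent.Lib.Recog.CoOneFive.Start

/-!
Coordinates adapted to the group of order five (owner: helper4).
-/

set_option autoImplicit false
set_option linter.unusedSectionVars false
set_option linter.unusedVariables false

namespace CfsgLib.Recog.CoOneFive

open CfsgLib.Recog.CoOneType CfsgLib.ThreeTrans

variable {G : Type*} [Group G] [Finite G] {z : G} {Q : Subgroup G} {p : G → Nat} {k : G} {B : Subgroup G}

/-- A frame in which the fixed space of the group is the first side. -/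
structure Adapted (z : G) (Q : Subgroup G) (p : G → Nat) (k : G) (B : Subgroup G) : Prop where
  frame : Frame z Q p k
  five : FiveHyp z Q B
  kB : ∀ b ∈ B, Commute k b
  kx : k * (k * z * k⁻¹) * k⁻¹ = z
  memW : ∀ a ∈ Q, ((∀ b ∈ B, Commute b a) ↔ p a ∈ span false)

theorem injective_comp {S T : List Nat} (hS : Iso S) (hT : T.length = 8) (hlt : ∀ n < 256, app T n < 256)
    (h : comp S T = one) : comp T S = one := by
  have hinj : Function.Injective fun i : Fin 256 => (⟨app T i.1, hlt _ i.2⟩ : Fin 256) := by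
    intro i j e
    have e' := congrArg (fun n : Fin 256 => app S n.1) e
    simp only at e'
    rw [app_of_comp hT h i.2, app_of_comp hT h j.2] at e'
    exact Fin.ext e'
  refine comp_app_congr (by rw [length_comp, hS.1]) rfl fun n hn => ?_
  obtain ⟨⟨m, hm⟩, e⟩ := Finite.injective_iff_surjective.1 hinj ⟨n, hn⟩
  have e' : app T m = n := congrArg Fin.val e
  subst e'
  rw [app_comp hS.1, app_of_comp hT h hm, app_one _ hn]

theorem list_lt {T : List Nat} (hT : T.length = 8) (h : ∀ t ∈ T, t < 256) : ∀ n < 256, app T n < 256 := by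
  intro n hn
  match T, hT with
  | [a0, a1, a2, a3, a4, a5, a6, a7], _ =>
    refine full_induction (P := fun n => app [a0, a1, a2, a3, a4, a5, a6, a7] n < 256)
      (by rw [app_zero]; norm_num) (fun x y ex ey => by rw [app_xor]; exact lt_xor ex ey) ?_ hn
    simp only [List.mem_cons, List.not_mem_nil, or_false, forall_eq_or_imp, forall_eq] at h
    obtain ⟨h0, h1, h2, h3, h4, h5, h6, h7⟩ := h
    intro i hi
    simp only [allBasis, List.mem_cons, List.not_mem_nil, or_false] at hi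
    rcases hi with rfl | rfl | rfl | rfl | rfl | rfl | rfl | rfl <;>
      simp [app, term, Nat.testBit, Nat.shiftRight_eq_div_pow] <;>
      first
        | assumption
        | exact lt_xor h2 h3
        | exact lt_xor h2 (lt_xor h4 h5)
        | exact lt_xor h2 (lt_xor h3 h4)
        | exact lt_xor h2 (lt_xor h3 h5)

theorem basis_gram : ∀ a b : Nat, a ∈ sect → b ∈ sect → bb a 1 = false ∧ bb a 2 = false ∧ a < 256 := fun a b ha _ =>
  ⟨(sect_lt a ha).2.1, (sect_lt a ha).2.2.1, (sect_lt a ha).1⟩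

/-- The completion of a plane. -/
theorem plane_spec {a b : Nat} (ha : a ∈ sect) (hb : b ∈ sect) (hqa : qb a = true) (hqb : qb b = true)
    (hab : bb a b = true) : ∃ S T : List Nat, Iso S ∧ Iso T ∧ comp S T = one ∧ comp T S = one ∧
      app S 1 = 1 ∧ app S 2 = 2 ∧ app S 12 = a ∧ app S 52 = b := by
  have hm : (a, b) ∈ planes.map fun r => r.1 := by
    rw [planes_cover]
    simp [List.mem_flatMap, List.mem_map, List.mem_filter, ha, hb, hqa, hqb, hab]
  obtain ⟨⟨⟨a', b'⟩, ⟨c, d, g, h'⟩, T⟩, hr, e⟩ := List.mem_map.1 hm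
  obtain ⟨rfl, rfl⟩ := Prod.mk.injEq _ _ _ _ ▸ e
  have hok : planeOK ((a', b'), (c, d, g, h'), T) = true := by
    rcases List.mem_append.1 hr with hr | hr
    · rcases List.mem_append.1 hr with hr | hr
      · rcases List.mem_append.1 hr with hr | hr
        · exact List.all_eq_true.1 planes0_ok _ hr
        · exact List.all_eq_true.1 planes1_ok _ hr
      · exact List.all_eq_true.1 planes2_ok _ hr
    · exact List.all_eq_true.1 planes3_ok _ hr
  simp only [planeOK, Bool.and_eq_true, decide_eq_true_eq, beq_iff_eq, Bool.not_eq_true', List.all_eq_true,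
    List.mem_cons, List.not_mem_nil, or_false, forall_eq_or_imp, forall_eq] at hok
  obtain ⟨⟨⟨⟨⟨⟨⟨⟨⟨⟨⟨⟨⟨⟨⟨⟨⟨⟨⟨⟨⟨⟨⟨⟨⟨lc, ld⟩, lg⟩, lh⟩, lT⟩, hTl⟩, qc⟩, qd⟩, qg⟩, qh⟩, bcd⟩, bgh⟩, bca⟩, bcb⟩,
    bda⟩, bdb⟩, bga⟩, bgb⟩, bha⟩, bhb⟩, bgc⟩, bgd⟩, bhc⟩, bhd⟩, perp⟩, hST⟩ := hok
  obtain ⟨⟨c1, c2⟩, ⟨d1, d2⟩, ⟨g1, g2⟩, ⟨h1, h2⟩⟩ := perp
  obtain ⟨a1, a2, la⟩ := basis_gram a' a' ha ha
  obtain ⟨b1, b2, lb⟩ := basis_gram b' b' hb hb
  obtain ⟨⟨m1, m2⟩, ⟨m3, m4⟩, ⟨m5, m6⟩, ⟨m7, m8⟩⟩ := app_mk 1 2 a' b' c d g h'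
  have hS : Iso (mk 1 2 a' b' c d g h') := by
    refine iso_of_gram ?_
    simp only [gramB, allBasis, length_mk, List.all_cons, List.all_nil, Bool.and_true, m1, m2, m3, m4, m5, m6,
      m7, m8, bb_self _ la, bb_self _ lb, bb_self _ lc, bb_self _ ld, bb_self _ lg, bb_self _ lh]
    simp only [bb_comm 1 a', bb_comm 1 b', bb_comm 1 c, bb_comm 1 d, bb_comm 1 g, bb_comm 1 h', bb_comm 2 a',
      bb_comm 2 b', bb_comm 2 c, bb_comm 2 d, bb_comm 2 g, bb_comm 2 h', bb_comm b' a', bb_comm a' c,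
      bb_comm a' d, bb_comm a' g, bb_comm a' h', bb_comm b' c, bb_comm b' d, bb_comm b' g, bb_comm b' h',
      bb_comm d c, bb_comm c g, bb_comm c h', bb_comm d g, bb_comm d h', bb_comm h' g, a1, a2, b1, b2, c1, c2, d1,
      d2, g1, g2, h1, h2, hqa, hqb, hab, qc, qd, qg, qh, bcd, bgh, bca, bcb, bda, bdb, bga, bgb, bha, bhb, bgc, bgd,
      bhc, bhd, la, lb, lc, ld, lg, lh]
    decide +kernel
  have hlt := list_lt hTl lT
  have hTS := injective_comp hS hTl hlt hST
  refine ⟨_, T, hS, ⟨hTl, fun n hn => ⟨hlt n hn, ?_⟩⟩, hST, hTS, m1, m2, m3, m4⟩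
  rw [← (hS.2 _ (hlt n hn)).2, app_of_comp hTl hST hn]

theorem low_mem {l : List Nat} (h0 : 0 ∈ l) (hx : ∀ a b, a ∈ l → b ∈ l → a ^^^ b ∈ l) (h1 : 1 ∈ l) (h2 : 2 ∈ l) :
    ∀ n ∈ [0, 1, 2, 3], n ∈ l := by
  simp only [List.mem_cons, List.not_mem_nil, or_false, forall_eq_or_imp, forall_eq]
  exact ⟨h0, h1, h2, hx 1 2 h1 h2⟩

theorem exists_adapted (h : FiveHyp z Q B) : ∃ p k, Adapted z Q p k B := by
  classical
  obtain ⟨p0, hs0⟩ := h.hyp.exists_sys
  obtain ⟨x, hxQ, hxB, hxx, hx1, hxz⟩ := h.exists_inner hs0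
  obtain ⟨k, hkB, hkz, hkx⟩ := h.exists_swap hs0 hxQ hxB hxx hx1 hxz
  -- the first coordinate
  obtain ⟨c, hc, hcx⟩ := hs0.to_one hxQ hxx hx1 hxz
  obtain ⟨A, hA, hAc⟩ := hs0.exists_acts hc
  have hs1 := sys_induced hs0 hA hAc
  have px1 : app A (p0 x) = 1 := (hAc.2 x hxQ).symm.trans hcx
  set p1 := fun a => app A (p0 a) with hp1
  have px1' : p1 x = 1 := px1
  -- the second
  obtain ⟨l1, hnd1, hlen1, hlt1, h01, hx1', hiff1⟩ := h.exists_image hs1
  obtain ⟨f, hf, hfq, hf1⟩ : ∃ f ∈ l1, qb f = false ∧ bb f 1 = true := by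
    obtain ⟨n, hn, hn'⟩ : ∃ n ∈ l1, bb n 1 = true := by
      by_contra hc'
      push Not at hc'
      have hxQ' : x ∈ Q ⊓ Subgroup.centralizer (B : Set G) := ⟨hxQ, mem_cent_iff.2 hxB⟩
      have hxc : (⟨x, hxQ'⟩ : ↥(Q ⊓ Subgroup.centralizer (B : Set G))) ∈
          Subgroup.center ↥(Q ⊓ Subgroup.centralizer (B : Set G)) := by
        refine Subgroup.mem_center_iff.2 fun a => Subtype.ext ?_
        refine ((hs1.commute_iff a.2.1 hxQ).2 ?_).eq
        rw [px1']
        exact Bool.eq_false_of_not_eq_true (hc' _ ((hiff1 a a.2.1).1 (mem_cent_iff.1 a.2.2)))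
      have hzc : (⟨z, h.z_mem⟩ : ↥(Q ⊓ Subgroup.centralizer (B : Set G))) ∈
          Subgroup.center ↥(Q ⊓ Subgroup.centralizer (B : Set G)) :=
        Subgroup.mem_center_iff.2 fun a => Subtype.ext (hs0.large.commute_z a.2.1).eq
      haveI : Finite ↥(Subgroup.center ↥(Q ⊓ Subgroup.centralizer (B : Set G))) := inferInstance
      let v : Fin 3 → ↥(Subgroup.center ↥(Q ⊓ Subgroup.centralizer (B : Set G))) :=
        ![1, ⟨_, hxc⟩, ⟨_, hzc⟩]
      have hv : Function.Injective v := by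
        have hval : ∀ i, (((v i : ↥(Subgroup.center ↥(Q ⊓ Subgroup.centralizer (B : Set G)))) :
            ↥(Q ⊓ Subgroup.centralizer (B : Set G))) : G) = ![1, x, z] i := by
          intro i; fin_cases i <;> rfl
        intro i j e
        have e' : (![1, x, z] : Fin 3 → G) i = ![1, x, z] j := by rw [← hval, ← hval, e]
        have hz1 := hs0.large.z_ne_one
        fin_cases i <;> fin_cases j <;> first
          | rfl
          | exact absurd e' (Ne.symm hx1)
          | exact absurd e' (Ne.symm hz1)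
          | exact absurd e' hx1
          | exact absurd e' hz1
          | exact absurd e' hxz
          | exact absurd e' (Ne.symm hxz)
      have := Nat.card_le_card_of_injective v hv
      rw [h.extra.2, Nat.card_fin] at this
      omega
    cases hq : qb n
    · exact ⟨n, hn, hq, hn'⟩
    · refine ⟨n ^^^ 1, hx1' n 1 hn (px1' ▸ (hiff1 x hxQ).1 hxB), ?_, ?_⟩
      · rw [qb_xor, hn', hq]; rfl
      · rw [bb_xor_left, hn']; rfl
  have hflt := hlt1 f hf
  set v := f &&& 252 with hv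
  have hvs : v ∈ sect := reduce_mem f hflt
  obtain ⟨hrI, hrr, hr1⟩ := rho_props hvs
  have hr2 : app (rho v) 2 = f := by
    have := List.all_eq_true.1 shift_two f (List.mem_range.2 hflt)
    simpa [hfq, hf1] using this
  have hs2 := sys_change hs1 hrI hrI hrr hrr
  set p2 := fun a => app (rho v) (p1 a) with hp2
  obtain ⟨l2, hnd2, hlen2, hlt2, h02, hx2, hiff2⟩ := h.exists_image hs2
  have h12 : (1 : Nat) ∈ l2 := by
    have := (hiff2 x hxQ).1 hxB
    simp only [hp2] at this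
    rwa [px1', hr1] at this
  have h22 : (2 : Nat) ∈ l2 := by
    obtain ⟨a, ha, hpa⟩ := hs1.surj f hflt
    have := (hiff2 a ha).1 ((hiff1 a ha).2 (by rw [hpa]; exact hf))
    simp only [hp2] at this
    rwa [hpa, ← hr2, app_of_comp hrI.1 hrr (by norm_num)] at this
  have hlow := low_mem h02 hx2 h12 h22
  have reduce : ∀ n ∈ l2, n &&& 252 ∈ l2 := by
    intro n hn
    obtain ⟨e, hm⟩ := and_three n (hlt2 n hn)
    have h3 := hx2 n (n &&& 3) hn (hlow _ hm)
    have e' : n ^^^ (n &&& 3) = n &&& 252 := by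
      conv_lhs => arg 1; rw [e]
      rw [Nat.xor_assoc, Nat.xor_self, Nat.xor_zero]
    rwa [e'] at h3
  have anis : ∀ a ∈ l2, a ∈ sect → a ≠ 0 → qb a = true := by
    intro a ha has ha0
    by_contra hq
    have hq' : qb a = false := Bool.eq_false_of_not_eq_true hq
    obtain ⟨al, a1, a2, -⟩ := sect_lt a has
    set L := [0, 1, a, a ^^^ 1] with hL
    have hLl : ∀ n ∈ L, n ∈ l2 := by
      simp only [hL, List.mem_cons, List.not_mem_nil, or_false, forall_eq_or_imp, forall_eq]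
      exact ⟨h02, h12, ha, hx2 a 1 ha h12⟩
    have hLx : ∀ m ∈ L, ∀ n ∈ L, m ^^^ n ∈ L := by
      simp only [hL, List.mem_cons, List.not_mem_nil, or_false, forall_eq_or_imp, forall_eq]
      simp [Nat.xor_comm, Nat.xor_left_comm, Nat.xor_assoc]
    have hLb : ∀ m ∈ L, ∀ n ∈ L, bb m n = false := by
      simp only [hL, List.mem_cons, List.not_mem_nil, or_false, forall_eq_or_imp, forall_eq]
      simp [bb_xor_left, bb_xor_right, bb_zero, bb_zero_left, bb_self a al, bb_self 1 (by norm_num), a1,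
        bb_comm 1 a]
    have hLq : ∀ n ∈ L, qb n = false := by
      simp only [hL, List.mem_cons, List.not_mem_nil, or_false, forall_eq_or_imp, forall_eq]
      exact ⟨rfl, rfl, hq', by rw [qb_xor, a1, hq']; rfl⟩
    let Asub : Subgroup G :=
      { carrier := {q | q ∈ Q ∧ p2 q ∈ L}
        one_mem' := ⟨Q.one_mem, by rw [hs2.p_one]; simp [hL]⟩
        mul_mem' := fun {u w} hu hw => ⟨Q.mul_mem hu.1 hw.1, by
          rw [hs2.map_mul u hu.1 w hw.1]; exact hLx _ hu.2 _ hw.2⟩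
        inv_mem' := fun {u} hu => ⟨Q.inv_mem hu.1, by rw [hs2.p_inv hu.1]; exact hu.2⟩ }
    have hAmem : ∀ q, q ∈ Asub ↔ q ∈ Q ∧ p2 q ∈ L := fun q => Iff.rfl
    have hle : Asub ≤ Q ⊓ Subgroup.centralizer (B : Set G) := fun q hq =>
      ⟨hq.1, mem_cent_iff.2 ((hiff2 q hq.1).2 (hLl _ hq.2))⟩
    have helem : Cfsg.IsElementaryAbelian 2 Asub := by
      refine ⟨⟨⟨fun u w => Subtype.ext ((hs2.commute_iff u.2.1 w.2.1).2 (hLb _ u.2.2 _ w.2.2)).eq⟩⟩, fun u hu => ?_⟩
      rw [pow_two, hs2.sq u hu.1, hLq _ hu.2]; rfl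
    have hLn : L.Nodup := by
      have n1 : a ≠ 1 := fun e => absurd (sect_lt a has).2.2.1 (by rw [e]; decide)
      have n2 : a ^^^ 1 ≠ 0 := fun e => n1 (Nat.xor_eq_zero_iff.1 e)
      have n3 : a ^^^ 1 ≠ 1 := fun e => ha0 (by
        have := congrArg (· ^^^ 1) e
        simpa [Nat.xor_assoc] using this)
      have n4 : a ^^^ 1 ≠ a := fun e => absurd (congrArg (a ^^^ ·) e) (by
        simp [← Nat.xor_assoc])
      simp [hL, List.nodup_cons, Ne.symm ha0, Ne.symm n1, Ne.symm n2, Ne.symm n3, Ne.symm n4]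
    have hc4 := card_fibre hs2 hLn fun n hn => hlt2 n (hLl n hn)
    have hle4 := h.minus Asub hle helem
    have : Nat.card Asub = 2 * L.length := hc4
    simp [hL] at this
    omega
  obtain ⟨n, hn, hn'⟩ := exists_out hnd2 [0, 1, 2, 3] (by simp [hlen2])
  set a := n &&& 252 with ha
  have has : a ∈ sect := reduce_mem n (hlt2 n hn)
  have ha0 : a ≠ 0 := fun e => hn' (by
    obtain ⟨e', hm⟩ := and_three n (hlt2 n hn)
    rw [e', ← ha, e, Nat.zero_xor]; exact hm)
  have hal := reduce n hn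
  obtain ⟨n', hn2, hn2'⟩ := exists_out hnd2 [0, 1, 2, 3, a, a ^^^ 1, a ^^^ 2, a ^^^ 3] (by simp [hlen2])
  set b := n' &&& 252 with hb
  have hbs : b ∈ sect := reduce_mem n' (hlt2 n' hn2)
  have hbl := reduce n' hn2
  obtain ⟨e', hm⟩ := and_three n' (hlt2 n' hn2)
  have hb0 : b ≠ 0 := fun e => hn2' (by
    rw [e', ← hb, e, Nat.zero_xor]
    simp only [List.mem_cons, List.not_mem_nil, or_false] at hm ⊢
    tauto)
  have hba : b ≠ a := fun e => hn2' (by
    rw [e', ← hb, e]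
    simp only [List.mem_cons, List.not_mem_nil, or_false] at hm
    rcases hm with e3 | e3 | e3 | e3 <;> rw [e3] <;> simp)
  have hqa := anis a hal has ha0
  have hqb := anis b hbl hbs hb0
  have hab : bb a b = true := by
    show (qb (a ^^^ b) ^^ (qb a ^^ qb b)) = true
    rw [anis _ (hx2 a b hal hbl) (sect_mem_xor has hbs) (fun e => hba (Nat.xor_eq_zero_iff.1 e).symm), hqa, hqb]
    rfl
  obtain ⟨S, T, hS, hT, hST, hTS, s1, s2, s3, s4⟩ := plane_spec has hbs hqa hqb hab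
  have hs3 := sys_change hs2 hS hT hST hTS
  obtain ⟨l3, hnd3, hlen3, hlt3, h03, hx3, hiff3⟩ := h.exists_image hs3
  have move : ∀ m ∈ l2, app T m ∈ l3 := by
    intro m hm'
    obtain ⟨q, hq, rfl⟩ := hs2.surj m (hlt2 m hm')
    exact (hiff3 q hq).1 ((hiff2 q hq).2 hm')
  have back : ∀ y < 256, app T (app S y) = y := fun y hy => app_of_comp hS.1 hTS hy
  have hbasis : ∀ y ∈ basis false, y ∈ l3 := by
    intro y hy
    rw [← back y (basis_lt false y hy).1]
    refine move _ ?_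
    simp only [basis, List.mem_cons, List.not_mem_nil, or_false] at hy
    rcases hy with rfl | rfl | rfl | rfl
    · rwa [s1]
    · rwa [s2]
    · rwa [s3]
    · rwa [s4]
  have hsub : span false ⊆ l3 := fun y hy => span_subset (P := (· ∈ l3)) h03 hx3 hbasis hy
  have hperm : ∀ y, y ∈ span false ↔ y ∈ l3 :=
    fun y => ((five_len false).2.2.2.subperm hsub).perm_of_length_le
      (by rw [(five_len false).2.2.1, hlen3]) |>.mem_iff
  set p3 := fun a => app T (p2 a) with hp3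
  have px : p3 x = 1 := by
    show app T (app (rho v) (p1 x)) = 1
    rw [px1', hr1]
    have := back 1 (by norm_num)
    rwa [s1] at this
  have hkinv : k⁻¹ * z * k = x := by
    calc k⁻¹ * z * k = k⁻¹ * (k * x * k⁻¹) * k := by rw [hkx]
      _ = x := by group
  exact ⟨p3, k, ⟨hs3, hkz.symm ▸ hxQ, hkinv.symm ▸ hxQ, by rw [hkz, px], by rw [hkinv, px]⟩, h, hkB,
    by rw [hkz, hkx], fun q hq => (hiff3 q hq).trans (hperm _).symm⟩

end CfsgLib.Recog.CoOneFive
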