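import Cfsg.Agent.Lib.Recog.CoOneType.Facts
import Cfsg.Agent.Lib.Recog.CoOneFive.Tables
import Mathlib.GroupTheory.SpecificGroups.Alternating

/-!
Definitions for the finite facts about an element of order five with a four-dimensional fixed space in the isometry group of the
eight-dimensional form of plus type over two elements (owner: helper4; on the model of helper12).
-/

set_option autoImplicit false
set_option maxRecDepth 100000
set_option Elab.async false

namespace CfsgLib.Recog.CoOneFive

open CfsgLib.Recog.CoOneType

/-- The map with prescribed values on the adapted basis `1, 2, 12, 52, 28, 44, 64, 128`. -/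
def mk (a b c d e f g h : Nat) : List Nat :=
  [a, b, d ^^^ (e ^^^ f), c ^^^ (d ^^^ (e ^^^ f)), e ^^^ c, f ^^^ c, g, h]

/-- The adapted bases of the fixed space and of its complement. -/
def basis : Bool → List Nat
  | false => [1, 2, 12, 52]
  | true => [28, 44, 64, 128]

/-- A map on one side, the identity on the other. -/
def mkSide (s : Bool) (a b c d : Nat) : List Nat :=
  match s with
  | false => mk a b c d 28 44 64 128
  | true => mk 1 2 12 52 a b c d

/-- The isometries fixing the other side pointwise. -/
def cand (s : Bool) : List (List Nat) :=
  ((span s).filter fun a => qb a == qb ((basis s).getD 0 0)).flatMap fun a =>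
    ((span s).filter fun b => qb b == qb ((basis s).getD 1 0) &&
      bb a b == bb ((basis s).getD 0 0) ((basis s).getD 1 0)).flatMap fun b =>
    ((span s).filter fun c => qb c == qb ((basis s).getD 2 0) &&
      bb a c == bb ((basis s).getD 0 0) ((basis s).getD 2 0) &&
      bb b c == bb ((basis s).getD 1 0) ((basis s).getD 2 0)).flatMap fun c =>
    ((span s).filter fun d => qb d == qb ((basis s).getD 3 0) &&
      bb a d == bb ((basis s).getD 0 0) ((basis s).getD 3 0) &&
      bb b d == bb ((basis s).getD 1 0) ((basis s).getD 3 0) &&
      bb c d == bb ((basis s).getD 2 0) ((basis s).getD 3 0)).map fun d => mkSide s a b c d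

/-- The rows of a side. -/
def rows : Bool → List (List Nat × (Nat × Nat) × (Nat × Nat) × List Nat)
  | false => rows0
  | true => rows1

/-- The even maps of a side. -/
def even (s : Bool) : List (List Nat) := (rows s).map fun r => r.1

/-- The images of the five singular vectors under the even maps. -/
def imgs (s : Bool) : List (List Nat) := (rows s).map fun r => r.2.2.2

/-- The reflection used for the odd maps of a side. -/
def oddVec : Bool → Nat
  | false => 12
  | true => 28

/-- The odd maps of a side. -/
def odd (s : Bool) : List (List Nat) := (even s).map fun E => comp E (refl (oddVec s))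

/-- The map of a pair. -/
def pairMap (de : Nat × Nat) : List Nat := comp (refl de.1) (refl de.2)

/-- Powers. -/
def pw (A : List Nat) : Nat → List Nat
  | 0 => one
  | n + 1 => comp A (pw A n)

/-- The completions of the planes. -/
def planes : List ((Nat × Nat) × (Nat × Nat × Nat × Nat) × List Nat) := planes0 ++ planes1 ++ planes2 ++ planes3

/-- The check of a completion. -/
def planeOK (r : (Nat × Nat) × (Nat × Nat × Nat × Nat) × List Nat) : Bool :=
  match r with
  | ((a, b), (c, d, g, h), T) =>
    decide (c < 256) && decide (d < 256) && decide (g < 256) && decide (h < 256) &&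
      (T.all fun t => decide (t < 256)) && T.length == 8 &&
      qb c && qb d && !qb g && !qb h && bb c d && bb g h &&
      !bb c a && !bb c b && !bb d a && !bb d b && !bb g a && !bb g b && !bb h a && !bb h b &&
      !bb g c && !bb g d && !bb h c && !bb h d &&
      [c, d, g, h].all (fun y => !bb y 1 && !bb y 2) &&
      comp (mk 1 2 a b c d g h) T == one

/-- The rows are even maps of the side with their images. -/
def rowOK (s : Bool) (r : List Nat × (Nat × Nat) × (Nat × Nat) × List Nat) : Bool :=
  match r with
  | (A, (d, e), (d', e'), im) =>
    (span s).contains d && (span s).contains e && (span s).contains d' && (span s).contains e' &&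
      qb d && qb e && bb d e && qb d' && qb e' && bb d' e' &&
      A == comp (pairMap (d, e)) (pairMap (d', e')) &&
      ((five s).map (app A) == im.map fun i => (five s).getD i 0) &&
      im.all (fun i => decide (i < 5)) && im.length == 5 && (!(im == [0, 1, 2, 3, 4]) || A == one)

end CfsgLib.Recog.CoOneFive
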