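import Cfsg.Agent.Lib.Recog.CoOneFive.Sides
import Cfsg.Agent.Lib.Recog.CoOneType.Distinct
import Mathlib.GroupTheory.PGroup

/-!
An involution centralizing the group of order five that is not conjugate to `z` (owner: helper4).
-/

set_option autoImplicit false
set_option linter.unusedSectionVars false
set_option linter.unusedVariables false
set_option linter.style.haveILetI false

namespace CfsgLib.Recog.CoOneFive

open CfsgLib.Recog.CoOneType CfsgLib.ThreeTrans

variable {G : Type*} [Group G] [Finite G] {z : G} {Q : Subgroup G} {p : G → Nat} {k : G} {B : Subgroup G}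

namespace Adapted

variable (D : Adapted z Q p k B)
include D

theorem exists_outer : ∃ t : G, t * t = 1 ∧ t ≠ 1 ∧ Commute t z ∧ (∀ b ∈ B, Commute b t) ∧ ¬ IsConj z t := by
  classical
  haveI : Fact (Nat.Prime 5) := ⟨by norm_num⟩
  have h := D.frame.sys
  obtain ⟨hwA, hww, hwf⟩ := D.frame.wEl_spec
  set w := wEl z Q p k with hw
  have hr := rho_twelve
  simp only [Bool.and_eq_true, fixB, beq_iff_eq, List.any_eq_true, Bool.not_eq_true', beq_eq_false_iff_ne] at hr
  obtain ⟨⟨⟨⟨r1, r2⟩, r3⟩, r4⟩, n0, -, hn0⟩ := hr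
  have hrI : Iso (rho 12) := (rho_props (by decide +kernel)).1
  have hrc : rho 12 ∈ cand false := mem_cand hrI fun n hn => by
    simp only [Bool.not_false, basis, List.mem_cons, List.not_mem_nil, or_false] at hn
    rcases hn with rfl | rfl | rfl | rfl
    exacts [r1, r2, r3, r4]
  set far := (List.range 256).filter fun n => fixB (rho 12) n && (qb n == bb 52 n) with hfar
  have memfar : ∀ n, n ∈ far ↔ n < 256 ∧ app (rho 12) n = n ∧ qb n = bb 52 n := fun n => by
    simp [hfar, List.mem_filter, fixB]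
  let S := {t : G // t * t = 1 ∧ Acts z Q p t (rho 12)}
  have hS : Nat.card S = 48 := by
    have h1 := card_fibre h (List.nodup_range.filter _ : far.Nodup) fun n hn => ((memfar n).1 hn).1
    rw [far_solutions] at h1
    rw [← show (48 : ℕ) = 2 * 24 from rfl] at h1
    refine (Nat.card_eq_of_bijective (fun q : {a : G // a ∈ Q ∧ p a ∈ far} => (⟨w * q.1, ?_, ?_⟩ : S)) ⟨?_, ?_⟩).symm.trans h1
    · obtain ⟨-, hf, hq⟩ := (memfar _).1 q.2.2
      calc w * (q : G) * (w * q) = (w * (q : G) * w⁻¹) * (w * w) * q := by group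
        _ = (q : G) * sg z (bb 52 (p q)) * q := by rw [hwf q q.2.1 hf, hww, mul_one]
        _ = (q : G) * q * sg z (bb 52 (p q)) := by
          rw [mul_assoc, ← (h.sg_comm (h.large.commute_z q.2.1) _).eq, mul_assoc]
        _ = 1 := by rw [h.sq q q.2.1, h.sg_mul, hq, Bool.xor_self]; rfl
    · have := h.acts_mul (show one.length = 8 from rfl) hwA (h.acts_of_mem q.2.1)
      rwa [show comp (rho 12) one = rho 12 from comp_app_congr (by rw [length_comp]; rfl) (length_rho 12)
        fun n hn => by rw [app_comp (show one.length = 8 from rfl), app_one n hn]] at this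
    · intro a b e
      exact Subtype.ext (mul_left_cancel (congrArg (fun t : S => (t : G)) e))
    · rintro ⟨t, htt, htA⟩
      obtain ⟨q, hq, rfl, hf, e⟩ := h.coset hww htt hwA htA
      exact ⟨⟨q, hq, (memfar _).2 ⟨h.lt q hq, hf, h.sg_inj (mul_left_cancel (e.symm.trans (hwf q hq hf)))⟩⟩, rfl⟩
  have hmove : ∀ b ∈ B, ∀ t : G, Acts z Q p t (rho 12) → Acts z Q p (b * t * b⁻¹) (rho 12) := by
    intro b hb t ht
    by_cases hb1 : b = 1
    · simpa [hb1] using ht
    obtain ⟨-, -, E, -, hEc, hEb⟩ := D.five_elem hb hb1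
    exact h.acts_conj (cand_spec hEc).1.1 (length_rho 12) (length_rho 12) hEb ht (cross_comm hrc hEc).symm
  letI : MulAction B S :=
    { smul := fun b t => ⟨(b : G) * t * (b : G)⁻¹, conj_sq_one t.2.1 _, hmove b b.2 t t.2.2⟩
      one_smul := fun t => Subtype.ext (show ((1 : B) : G) * t * ((1 : B) : G)⁻¹ = t by simp)
      mul_smul := fun a b t => Subtype.ext (show ((a * b : B) : G) * t * ((a * b : B) : G)⁻¹ =
        (a : G) * ((b : G) * t * (b : G)⁻¹) * (a : G)⁻¹ by simp [mul_assoc]) }
  have hmod := (IsPGroup.of_card (n := 1) (D.five.card.trans (pow_one 5).symm)).card_modEq_card_fixedPoints S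
  rw [hS] at hmod
  obtain ⟨⟨t, ht⟩⟩ : Nonempty (MulAction.fixedPoints B S) := by
    by_contra hne
    rw [not_nonempty_iff] at hne
    rw [Nat.card_of_isEmpty] at hmod
    exact absurd hmod (by decide)
  obtain ⟨t, htt, htA⟩ := t
  have hcomm : ∀ b ∈ B, Commute b t := fun b hb =>
    mul_inv_eq_iff_eq_mul.1 (congrArg (fun x : S => (x : G)) (ht ⟨b, hb⟩))
  refine ⟨t, htt, fun e => ?_, htA.1, hcomm, fun hc => ?_⟩
  · have e1 : rho 12 = one := h.acts_unique (length_rho 12) rfl htA (e ▸ h.acts_one)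
    exact absurd e1 (by decide +kernel)
  · obtain ⟨c, -, hcw⟩ := D.frame.far_class htA htt
    exact D.frame.wEl_ne (hc.trans (isConj_iff.2 ⟨c⁻¹, by rw [← hcw]; group⟩))

end Adapted

end CfsgLib.Recog.CoOneFive
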