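import Cfsg.Agent.Lib.Recog.CoOneFive.Cand
import Cfsg.Agent.Lib.Recog.CoOneFive.Coords

/-!
Maps induced on one side are even; the action on five singular vectors (owner: helper4).
-/

set_option autoImplicit false
set_option linter.unusedSectionVars false
set_option linter.unusedVariables false

namespace CfsgLib.Recog.CoOneFive

open CfsgLib.Recog.CoOneType CfsgLib.ThreeTrans

variable {G : Type*} [Group G] [Finite G] {z : G} {Q : Subgroup G} {p : G → Nat} {k : G}

theorem length_pw {A : List Nat} (hA : A.length = 8) : ∀ n, (pw A n).length = 8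
  | 0 => rfl
  | n + 1 => by rw [pw, length_comp, length_pw hA n]

theorem acts_pow (h : Sys z Q p) {c : G} {A : List Nat} (hA : A.length = 8) (hc : Acts z Q p c A) :
    ∀ n : ℕ, Acts z Q p (c ^ n) (pw A n)
  | 0 => by rw [pow_zero]; exact h.acts_one
  | n + 1 => by rw [pow_succ']; exact h.acts_mul (length_pw hA n) hc (acts_pow h hA hc n)

/-- No element of the centralizer of `z` induces a reflection. -/
theorem no_refl (F : Frame z Q p k) {c : G} {d : Nat} (hd : d < 256) (hq : qb d = true) :
    ¬ Acts z Q p c (refl d) := by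
  classical
  intro hc
  haveI : Fact (Nat.Prime 2) := ⟨Nat.prime_two⟩
  have hRR : comp (refl d) (refl d) = one := by
    refine comp_app_congr (by rw [length_comp, length_refl]) rfl fun n hn => ?_
    rw [app_comp (length_refl d), app_refl hn, app_refl (rf_lt hd hn), rf_rf hd, app_one n hn]
  have hodd : ∀ j, pw (refl d) (2 * j + 1) = refl d := by
    intro j
    induction j with
    | zero =>
      refine comp_app_congr (length_pw (length_refl d) _) (length_refl d) fun n hn => ?_
      show app (comp (refl d) one) n = _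
      rw [app_comp (show one.length = 8 from rfl), app_one n hn]
    | succ j ih =>
      show comp (refl d) (comp (refl d) (pw (refl d) (2 * j + 1))) = refl d
      rw [ih, comp_assoc (length_refl d), hRR]
      refine comp_app_congr (by rw [length_comp, length_refl]) (length_refl d) fun n hn => ?_
      rw [app_comp (length_refl d), app_one _ (by rw [app_refl hn]; exact rf_lt hd hn)]
  -- the part of two-power order
  obtain ⟨a, m, hm, hord⟩ := Nat.exists_eq_two_pow_mul_odd (orderOf_pos c).ne'
  obtain ⟨j, rfl⟩ := hm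
  set c' := c ^ (2 * j + 1) with hc'
  have hA' : Acts z Q p c' (refl d) := hodd j ▸ acts_pow F.sys (length_refl d) hc (2 * j + 1)
  have hc2 : c' ^ 2 ^ a = 1 := by rw [hc', ← pow_mul, mul_comm, ← hord, pow_orderOf_eq_one]
  obtain ⟨T, hTcard, hQT, hT⟩ := F.exists_sylow
  set C := Subgroup.centralizer ({z} : Set G) with hC
  have hTC : T ≤ C := fun t ht => by
    obtain ⟨v, -, r, -, hr⟩ := (hT t).1 ht
    exact Subgroup.mem_centralizer_singleton_iff.2 hr.1
  have hfac : (Nat.card C).factorization 2 = 21 := by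
    rw [F.sys.cardC, show (2 : ℕ) ^ 9 * 174182400 = 2 ^ 21 * 42525 by norm_num,
      Nat.factorization_def _ Nat.prime_two, padicValNat.mul (by norm_num) (by norm_num),
      padicValNat.prime_pow, padicValNat.eq_zero_of_not_dvd (by norm_num)]
  let S : Sylow 2 C := Sylow.ofCard (T.subgroupOf C)
    (by rw [hfac, Nat.card_congr (Subgroup.subgroupOfEquivOfLe hTC).toEquiv, hTcard])
  set cC : C := ⟨c', Subgroup.mem_centralizer_singleton_iff.2 hA'.1⟩ with hcC
  have hp2 : IsPGroup 2 (Subgroup.zpowers cC) := by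
    intro y
    obtain ⟨n, hn⟩ := y.2
    refine ⟨a, Subtype.ext (Subtype.ext ?_)⟩
    rw [SubgroupClass.coe_pow, SubgroupClass.coe_pow, ← hn]
    show (c' ^ n) ^ 2 ^ a = 1
    rw [← zpow_natCast (c' ^ n), ← zpow_mul, mul_comm, zpow_mul, zpow_natCast, hc2, one_zpow]
  obtain ⟨R, hR⟩ := hp2.exists_le_sylow
  obtain ⟨g, hg⟩ := MulAction.exists_smul_eq C R S
  have hgT : (g : G) * c' * (g : G)⁻¹ ∈ T := by
    have : g * cC * g⁻¹ ∈ (S : Subgroup C) := by
      rw [← hg, Sylow.coe_subgroup_smul]
      exact ⟨_, hR (Subgroup.mem_zpowers _), rfl⟩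
    exact Subgroup.mem_subgroupOf.1 this
  obtain ⟨v, hv, w, hw, hact⟩ := (hT _).1 hgT
  obtain ⟨E, hE, hEg⟩ := F.sys.exists_acts (show Commute (g : G) z from
    Subgroup.mem_centralizer_singleton_iff.1 g.2)
  have hwl : w.1.length = 8 := F.sys.mid_len hw
  set A' := comp (rho v) w.1 with hA'def
  have hAl : A'.length = 8 := by rw [hA'def, length_comp, hwl]
  have key : ∀ n < 256, app A' n ^^^ n = 0 ∨ app A' n ^^^ n = app E d := by
    intro n hn
    obtain ⟨r, hr, rfl⟩ := F.sys.surj n hn
    set r' := (g : G)⁻¹ * r * g with hr'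
    have hgz : Commute (g : G) z := Subgroup.mem_centralizer_singleton_iff.1 g.2
    have hr'Q : r' ∈ Q := by
      have := F.sys.large.conj_mem hgz.inv_left hr
      rwa [inv_inv] at this
    have e1 : app A' (p r) = app E (app (refl d) (p r')) := by
      rw [← hact.2 r hr, ← hA'.2 r' hr'Q, ← hEg.2 _ (F.sys.large.conj_mem hA'.1 hr'Q)]
      congr 1
      rw [hr']
      group
    have e2 : app E (p r') = p r := by
      rw [← hEg.2 r' hr'Q, hr']
      congr 1
      group
    rw [e1, app_refl (F.sys.lt r' hr'Q), rf, app_xor, e2, Nat.xor_comm (p r), Nat.xor_assoc, Nat.xor_self,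
      Nat.xor_zero]
    cases bb (p r') d
    · exact Or.inl (app_zero E)
    · exact Or.inr rfl
  have two : ∀ i < 256, ∀ j < 256, app A' i ^^^ i ≠ 0 → app A' j ^^^ j ≠ 0 →
      app A' i ^^^ i = app A' j ^^^ j := by
    intro i hi j hj h1 h2
    rw [(key i hi).resolve_left h1, (key j hj).resolve_left h2]
  have unit : ∀ i ∈ [4, 8, 16, 32, 64, 128], i < 256 := by decide
  have hw1 := List.all_eq_true.1 mid_two w hw
  simp only [Bool.or_eq_true, beq_iff_eq, List.any_eq_true, Bool.and_eq_true, Bool.not_eq_true',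
    beq_eq_false_iff_ne] at hw1
  rcases hw1 with hw1 | ⟨i, hi, i', hi', ⟨⟨⟨⟨b1, b2⟩, n1⟩, n2⟩, n3⟩⟩
  · by_cases hv0 : v = 0
    · have e : A' = one := by
        rw [hA'def, hw1, hv0, rho_zero]
        decide +kernel
      have := F.sys.acts_unique (B := one) hAl rfl hact
      have h1 : Acts z Q p ((g : G) * c' * (g : G)⁻¹) one := e ▸ hact
      have hin : (g : G) * c' * (g : G)⁻¹ ∈ Q := F.sys.mem_of_acts_one h1
      have hc'Q : c' ∈ Q := by
        have hgz : Commute (g : G) z := Subgroup.mem_centralizer_singleton_iff.1 g.2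
        have := F.sys.large.conj_mem hgz.inv_left hin
        rwa [show (g : G)⁻¹ * ((g : G) * c' * (g : G)⁻¹) * (g : G)⁻¹⁻¹ = c' by group] at this
      have hd1 : refl d = one := F.sys.acts_unique (length_refl d) rfl hA' (F.sys.acts_of_mem hc'Q)
      have hnd := List.all_eq_true.1 (show ((List.range 256).all fun n => n == 0 ||
        one.any fun y => bb y n) = true by decide +kernel) d (List.mem_range.2 hd)
      have hd0 : d ≠ 0 := fun e => by rw [e] at hq; exact absurd hq (by decide)
      simp only [Bool.or_eq_true, beq_iff_eq, hd0, false_or, List.any_eq_true] at hnd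
      obtain ⟨y, hy, hyd⟩ := hnd
      have e3 : app (refl d) y = y := by rw [hd1, app_one y (one_lt y hy)]
      rw [app_refl (one_lt y hy), rf, hyd] at e3
      exact hd0 (by
        have := congrArg (y ^^^ ·) e3
        simpa [← Nat.xor_assoc] using this)
    · have h2 := List.all_eq_true.1 rho_two v hv
      simp only [Bool.or_eq_true, beq_iff_eq, hv0, false_or, List.any_eq_true, Bool.and_eq_true,
        Bool.not_eq_true', beq_eq_false_iff_ne] at h2
      obtain ⟨i, hi, ⟨⟨m1, m2⟩, m3⟩⟩ := h2
      have e : ∀ n < 256, app A' n = app (rho v) n := fun n hn => by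
        rw [hA'def, app_comp hwl, hw1, app_one n hn]
      have := two 2 (by norm_num) i (unit i hi) (by rw [e 2 (by norm_num)]; exact m1)
        (by rw [e i (unit i hi)]; exact m2)
      rw [e 2 (by norm_num), e i (unit i hi)] at this
      exact m3 this
  · have hlt : ∀ m, m < 256 → app w.1 m < 256 := by
      obtain ⟨cw, hcw⟩ := F.sys.mid_lift hw
      intro m hm
      obtain ⟨r, hr, rfl⟩ := F.sys.surj m hm
      rw [← hcw.2 r hr]
      exact F.sys.lt _ (F.sys.large.conj_mem hcw.1 hr)
    have red : ∀ i, i < 256 → bb (app w.1 i) 1 = false →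
        (app A' i ^^^ i) &&& 252 = (app w.1 i ^^^ i) &&& 252 := by
      intro i hi hb
      have e := F.rho_shift hv (hlt i hi) hb
      rw [hA'def, app_comp hwl]
      have e2 : app (rho v) (app w.1 i) = app w.1 i ^^^ (bif bb v (app w.1 i) then 1 else 0) := by
        rw [← e, Nat.xor_comm (app (rho v) (app w.1 i)), ← Nat.xor_assoc, Nat.xor_self, Nat.zero_xor]
      rw [e2, Nat.and_xor_distrib_right, Nat.and_xor_distrib_right, Nat.and_xor_distrib_right]
      cases bb v (app w.1 i) <;> simp
    have r1 := red i (unit i hi) b1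
    have r2 := red i' (unit i' hi') b2
    have := two i (unit i hi) i' (unit i' hi') (fun e => n1 (by rw [← r1, e]; rfl))
      (fun e => n2 (by rw [← r2, e]; rfl))
    exact n3 (by rw [← r1, ← r2, this])

theorem span_lt {s : Bool} {n : Nat} (h : n ∈ span s) : n < 256 := (mem_span.1 h).1

theorem row_ok {s : Bool} {r : List Nat × (Nat × Nat) × (Nat × Nat) × List Nat} (hr : r ∈ rows s) :
    rowOK s r = true := by
  cases s
  · exact List.all_eq_true.1 rows0_ok r hr
  · exact List.all_eq_true.1 rows1_ok r hr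

theorem pair_fix {s : Bool} {d e : Nat} (hd : d ∈ span s) (he : e ∈ span s) :
    ∀ n ∈ basis (!s), app (pairMap (d, e)) n = n := by
  intro n hn
  have hn' := (basis_lt _ n hn)
  have f : ∀ x ∈ span s, rf x n = n := fun x hx => by
    unfold rf
    rw [bb_comm, (mem_span.1 hx).2 n hn]
    simp
  rw [pairMap, app_comp (length_refl e), app_refl hn'.1, f e he, app_refl hn'.1, f d hd]

/-- The even maps of a side are induced and fix the other side. -/
theorem even_acts (h : Sys z Q p) {s : Bool} {A : List Nat} (hA : A ∈ even s) :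
    A ∈ cand s ∧ ∃ c, Acts z Q p c A := by
  obtain ⟨⟨A', ⟨d, e⟩, ⟨d', e'⟩, im⟩, hr, rfl⟩ := List.mem_map.1 hA
  have hok := row_ok hr
  simp only [rowOK, Bool.and_eq_true, List.contains_iff_mem, beq_iff_eq] at hok
  obtain ⟨⟨⟨⟨⟨⟨⟨⟨⟨⟨⟨⟨⟨⟨hd, he⟩, hd'⟩, he'⟩, qd⟩, qe⟩, bde⟩, qd'⟩, qe'⟩, bde'⟩, hA'⟩, -⟩, -⟩, -⟩, -⟩ := hok
  obtain ⟨c1, hc1⟩ := h.gen d e (span_lt hd) (span_lt he) qd qe bde
  obtain ⟨c2, hc2⟩ := h.gen d' e' (span_lt hd') (span_lt he') qd' qe' bde'
  have hl : ∀ x y, (pairMap (x, y)).length = 8 := fun x y => by rw [pairMap, length_comp, length_refl]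
  have hact : Acts z Q p (c1 * c2) A' := hA'.symm ▸ h.acts_mul (hl d' e') hc1 hc2
  obtain ⟨B, hB, hBc⟩ := h.exists_acts hact.1
  have hl' : A'.length = 8 := by rw [hA', length_comp, hl]
  have eB : B = A' := h.acts_unique hB.1 hl' hBc hact
  refine ⟨mem_cand (eB ▸ hB) fun n hn => ?_, _, hact⟩
  show app A' n = n
  rw [hA', app_comp (hl d' e'), pair_fix hd' he' n hn, pair_fix hd he n hn]

/-- An induced map fixing one side is even. -/
theorem even_of_induced (F : Frame z Q p k) {s : Bool} {A : List Nat} (hA : A ∈ cand s) {c : G}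
    (hc : Acts z Q p c A) : A ∈ even s := by
  have hsp := List.all_eq_true.1 (cand_split s) A hA
  simp only [Bool.or_eq_true, List.contains_iff_mem] at hsp
  rcases hsp with h | h
  · exact h
  exfalso
  obtain ⟨E, hE, rfl⟩ := List.mem_map.1 h
  obtain ⟨hEc, e, he⟩ := even_acts F.sys hE
  obtain ⟨hd, hq⟩ := oddVec_ok s
  obtain ⟨B, hB, hBc⟩ := F.sys.exists_acts (he.1.inv_left.mul_left hc.1)
  have hcomp : comp E B = comp E (refl (oddVec s)) := by
    refine F.sys.acts_unique (by rw [length_comp, hB.1]) (by rw [length_comp, length_refl]) ?_ hc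
    have := F.sys.acts_mul hB.1 he hBc
    rwa [mul_inv_cancel_left] at this
  refine no_refl F (span_lt hd) hq (?_ : Acts z Q p (e⁻¹ * c) _)
  have eB : B = refl (oddVec s) := by
    refine comp_app_congr hB.1 (length_refl _) fun n hn => ?_
    refine F.sys.app_inj he (hB.2 n hn).1 (by rw [app_refl hn]; exact rf_lt (span_lt hd) hn) ?_
    rw [← app_comp hB.1, ← app_comp (length_refl _), hcomp]
  exact eB ▸ hBc

/-- The permutation of five singular vectors by an even map. -/
theorem even_perm {s : Bool} {A : List Nat} (hA : A ∈ even s) :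
    (∃ σ : alternatingGroup (Fin 5), ∀ i : Fin 5,
      app A ((five s).getD i.1 0) = (five s).getD ((σ : Equiv.Perm (Fin 5)) i).1 0) ∧
    ((∀ n ∈ five s, app A n = n) → A = one) := by
  obtain ⟨⟨A', pr, pr', im⟩, hr, rfl⟩ := List.mem_map.1 hA
  have hok := row_ok hr
  obtain ⟨d, e⟩ := pr
  obtain ⟨d', e'⟩ := pr'
  simp only [rowOK, Bool.and_eq_true, List.contains_iff_mem, beq_iff_eq, List.all_eq_true,
    decide_eq_true_eq, Bool.or_eq_true, Bool.not_eq_true', beq_eq_false_iff_ne] at hok
  obtain ⟨⟨⟨⟨-, hmap⟩, hlt⟩, hlen⟩, hone⟩ := hok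
  show (∃ σ : alternatingGroup (Fin 5), _) ∧ _
  refine ⟨?_, fun hfix => ?_⟩
  · obtain ⟨σ, hσ⟩ := imgs_alt s im (List.mem_map.2 ⟨_, hr, rfl⟩)
    refine ⟨σ, fun i => ?_⟩
    have h1 := congrArg (fun l => l.getD i.1 0) hmap
    have hi : i.1 < (five s).length := by rw [(five_len s).1]; exact i.2
    have hi' : i.1 < im.length := by rw [hlen]; exact i.2
    simp only [List.getD_eq_getElem?_getD, List.getElem?_map, List.getElem?_eq_getElem hi,
      List.getElem?_eq_getElem hi', Option.map_some, Option.getD_some] at h1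
    rw [List.getD_eq_getElem _ _ hi, h1]
    subst hσ
    simp only [List.getElem_ofFn, List.getD_eq_getElem?_getD, Fin.eta]
  · refine hone.resolve_left (fun h => h ?_)
    refine List.ext_getElem (by rw [hlen]; rfl) fun i hi _ => ?_
    have hi5 : i < 5 := hlen ▸ hi
    have hf : i < (five s).length := by rw [(five_len s).1]; exact hi5
    have h1 := congrArg (fun l => l.getD i 0) hmap
    simp only [List.getD_eq_getElem?_getD, List.getElem?_map, List.getElem?_eq_getElem hf,
      List.getElem?_eq_getElem hi, Option.map_some, Option.getD_some, hfix _ (List.getElem_mem hf)] at h1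
    have hv : im[i] < (five s).length := by rw [(five_len s).1]; exact hlt _ (List.getElem_mem hi)
    rw [List.getElem?_eq_getElem hv, Option.getD_some] at h1
    have := (List.Nodup.getElem_inj_iff (five_len s).2.1).1 h1
    rw [← this]
    interval_cases i <;> rfl

/-- Every even permutation is realised. -/
theorem exists_even (s : Bool) (σ : alternatingGroup (Fin 5)) : ∃ A ∈ even s, ∀ i : Fin 5,
    app A ((five s).getD i.1 0) = (five s).getD ((σ : Equiv.Perm (Fin 5)) i).1 0 := by
  have h := imgs_sign s σ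
  rw [decide_eq_true (Equiv.Perm.mem_alternatingGroup.1 σ.2), List.contains_iff_mem] at h
  obtain ⟨⟨A, pr, pr', im⟩, hr, hrim⟩ := List.mem_map.1 h
  obtain ⟨d, e⟩ := pr
  obtain ⟨d', e'⟩ := pr'
  have hok := row_ok hr
  simp only [rowOK, Bool.and_eq_true, beq_iff_eq, List.all_eq_true, decide_eq_true_eq] at hok
  obtain ⟨⟨⟨⟨-, hmap⟩, hlt⟩, hlen⟩, -⟩ := hok
  refine ⟨A, List.mem_map.2 ⟨_, hr, rfl⟩, fun i => ?_⟩
  have h1 := congrArg (fun l => l.getD i.1 0) hmap
  have hi : i.1 < (five s).length := by rw [(five_len s).1]; exact i.2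
  have hi' : i.1 < im.length := by rw [hlen]; exact i.2
  simp only [List.getD_eq_getElem?_getD, List.getElem?_map, List.getElem?_eq_getElem hi,
    List.getElem?_eq_getElem hi', Option.map_some, Option.getD_some] at h1
  simp only [List.getD_eq_getElem?_getD, List.getElem?_eq_getElem hi, Option.getD_some]
  rw [h1]
  have hrim' : im = List.ofFn fun i => ((((σ : Equiv.Perm (Fin 5)) i : Fin 5)) : Nat) := hrim
  subst hrim'
  simp only [List.getElem_ofFn, Fin.eta]

/-- A group inducing even maps on five singular vectors maps to the alternating group. -/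
theorem exists_pi (h : Sys z Q p) (s : Bool) (H : Subgroup G) (hz : ∀ c ∈ H, Commute c z)
    (hf : ∀ c ∈ H, ∃ A ∈ even s, ∀ a ∈ Q, p a ∈ five s → p (c * a * c⁻¹) = app A (p a)) :
    ∃ π : H →* alternatingGroup (Fin 5), ∀ (c : H) (i : Fin 5), ∀ a ∈ Q, p a = (five s).getD i.1 0 →
      p ((c : G) * a * (c : G)⁻¹) = (five s).getD ((π c : Equiv.Perm (Fin 5)) i).1 0 := by
  classical
  have hmem : ∀ i : Fin 5, (five s).getD i.1 0 ∈ five s := fun i => by
    rw [List.getD_eq_getElem _ _ (by rw [(five_len s).1]; exact i.2)]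
    exact List.getElem_mem _
  have hfl : ∀ i : Fin 5, (five s).getD i.1 0 < 256 := fun i => span_lt (mem_five.1 (hmem i)).1
  have hinj : ∀ i j : Fin 5, (five s).getD i.1 0 = (five s).getD j.1 0 → i = j := fun i j e => by
    have hi : i.1 < (five s).length := by rw [(five_len s).1]; exact i.2
    have hj : j.1 < (five s).length := by rw [(five_len s).1]; exact j.2
    rw [List.getD_eq_getElem _ _ hi, List.getD_eq_getElem _ _ hj] at e
    exact Fin.ext ((List.Nodup.getElem_inj_iff (five_len s).2.1).1 e)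
  choose A hA hAa using fun c : H => hf c c.2
  choose σ hσ using fun c : H => (even_perm (hA c)).1
  have hspec : ∀ (c : H) (i : Fin 5), ∀ a ∈ Q, p a = (five s).getD i.1 0 →
      p ((c : G) * a * (c : G)⁻¹) = (five s).getD ((σ c : Equiv.Perm (Fin 5)) i).1 0 := fun c i a ha e => by
    rw [hAa c a ha (e ▸ hmem i), e, hσ c i]
  refine ⟨MonoidHom.mk' σ fun c d => Subtype.ext (Equiv.ext fun i => ?_), hspec⟩
  obtain ⟨a, ha, hpa⟩ := h.surj _ (hfl i)
  have e1 := hspec (c * d) i a ha hpa
  have hd := h.large.conj_mem (hz d d.2) ha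
  have e2 := hspec c _ _ hd (hspec d i a ha hpa)
  rw [show ((c * d : H) : G) * a * ((c * d : H) : G)⁻¹ = (c : G) * ((d : G) * a * (d : G)⁻¹) * (c : G)⁻¹ by
    rw [Subgroup.coe_mul]; group] at e1
  rw [Subgroup.coe_mul, Equiv.Perm.mul_apply]
  exact hinj _ _ (e1.symm.trans e2)

end CfsgLib.Recog.CoOneFive
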