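import Cfsg.Agent.Lib.Recog.CoOneFive.Outer
import Cfsg.Agent.Lib.Recog.JankoTwoUnique.Iso
import Cfsg.Agent.Lib.Recog.JankoTwo.Multiplier
import Cfsg.Agent.Lib.Components.Component

/-!
The centralizer of the group of order five is its product with a Hall–Janko group (owner: helper4).
-/

set_option autoImplicit false
set_option linter.all false

namespace CfsgLib.Recog.CoOneFive

open CfsgLib.Recog.CoOneType CfsgLib.ThreeTrans CfsgLib.Recog
open scoped commutatorElement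

variable {G : Type*} [Group G] [Finite G] {z : G} {Q : Subgroup G} {p : G → Nat} {k : G} {B : Subgroup G}

open scoped commutatorElement in
theorem commutator_central {N : Type*} [Group N] {a b c d : N} (hc : ∀ n, Commute c n) (hd : ∀ n, Commute d n) :
    ⁅a * c, b * d⁆ = ⁅a, b⁆ := by
  rw [commutatorElement_def, commutatorElement_def, mul_inv_rev, mul_inv_rev,
    show a * c * (b * d) * (c⁻¹ * a⁻¹) * (d⁻¹ * b⁻¹) = a * (c * (b * d) * c⁻¹) * a⁻¹ * d⁻¹ * b⁻¹ by group,
    (hc (b * d)).eq, mul_inv_cancel_right,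
    show a * (b * d) * a⁻¹ * d⁻¹ * b⁻¹ = a * b * (d * a⁻¹ * d⁻¹) * b⁻¹ by group, (hd a⁻¹).eq, mul_inv_cancel_right]

namespace Adapted

variable (D : Adapted z Q p k B)
include D

theorem comm_B {b c : G} (hb : b ∈ B) (hc : c ∈ B) : Commute b c := by
  obtain ⟨b', -, -, hgen⟩ := D.exists_gen
  obtain ⟨i, -, rfl⟩ := hgen b hb
  obtain ⟨j, -, rfl⟩ := hgen c hc
  exact (Commute.refl b').pow_pow i j

theorem B_le : B ≤ Subgroup.centralizer (B : Set G) := fun b hb =>
  mem_cent_iff.2 fun c hc => D.comm_B hc hb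

theorem K_le : Kgrp z Q p B ≤ Subgroup.centralizer (B : Set G) := fun c hc => mem_cent_iff.2 (mem_Kgrp.1 hc).2.1

theorem QB_le_K : Q ⊓ Subgroup.centralizer (B : Set G) ≤ Kgrp z Q p B := fun a ha => by
  obtain ⟨ha1, ha2⟩ := D.mem_QB.1 ha
  exact (D.Q_K ha1).2 ha2

theorem z_mem_QB : z ∈ Q ⊓ Subgroup.centralizer (B : Set G) := D.five.z_mem

theorem x_mem_QB : k * z * k⁻¹ ∈ Q ⊓ Subgroup.centralizer (B : Set G) :=
  D.mem_QB.2 ⟨D.frame.memQ, by rw [D.frame.px]; exact (basis_lt false 1 (by decide)).2⟩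

theorem five_torsion {b : G} (hb : b ∈ B) : b ^ 5 = 1 := by
  have := pow_card_eq_one' (x := (⟨b, hb⟩ : B))
  rw [D.five.card] at this
  exact congrArg Subtype.val this

theorem one_of_sq {b : G} (hb : b ∈ B) (h2 : b * b = 1) : b = 1 := by
  have h5 := D.five_torsion hb
  rw [pow_succ, pow_succ, pow_succ, pow_succ, pow_one, h2, one_mul, h2, one_mul] at h5
  exact h5

theorem Q_pow_four {a : G} (ha : a ∈ Q) : a ^ 4 = 1 := by
  rw [pow_succ, pow_succ, pow_succ, pow_one, mul_assoc, D.frame.sys.sq a ha, D.frame.sys.sg_mul, Bool.xor_self]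
  rfl

/-- The structure of the centralizer of the group. -/
theorem structure_N : ∃ L : Subgroup (Subgroup.centralizer (B : Set G)),
    Cfsg.layer (Subgroup.centralizer (B : Set G)) = L ∧ Cfsg.Spor.IsoJ2 L ∧
    Kgrp z Q p B ≤ L.map (Subgroup.centralizer (B : Set G)).subtype ∧
    (∀ n ∈ Subgroup.centralizer (B : Set G), ∃ b ∈ B,
      n * b⁻¹ ∈ L.map (Subgroup.centralizer (B : Set G)).subtype) ∧
    ∀ S : Subgroup G, Kgrp z Q p B ≤ S → (∀ c ∈ Kgrp z Q p B, k * c * k⁻¹ ∈ S) →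
      L.map (Subgroup.centralizer (B : Set G)).subtype ≤ S := by
  classical
  haveI : Fact (Nat.Prime 2) := ⟨Nat.prime_two⟩
  haveI : Fact (Nat.Prime 5) := ⟨by norm_num⟩
  have h := D.frame.sys
  set N := Subgroup.centralizer (B : Set G) with hN
  set BN := B.subgroupOf N with hBN
  have hBc : ∀ b ∈ BN, ∀ n : N, n * b = b * n := fun b hb n => Subtype.ext
    (mem_cent_iff.1 n.2 b (Subgroup.mem_subgroupOf.1 hb)).eq.symm
  haveI hBnormal : BN.Normal := ⟨fun b hb n => by rwa [hBc b hb n, mul_inv_cancel_right]⟩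
  let mk := QuotientGroup.mk' BN
  have hmk : Function.Surjective mk := QuotientGroup.mk'_surjective BN
  have eqk : ∀ a b : N, mk a = mk b ↔ ((a : G))⁻¹ * b ∈ B := fun a b => by
    show ((a : N ⧸ BN) = b) ↔ _
    rw [QuotientGroup.eq, Subgroup.mem_subgroupOf]
    simp
  let zN : N := ⟨z, D.z_mem_QB.2⟩
  let zX : N ⧸ BN := mk zN
  let QN : Subgroup N := (Q ⊓ N).subgroupOf N
  let QX : Subgroup (N ⧸ BN) := QN.map mk
  have hzz := h.large.mul_self_z
  -- the centralizer of the image of `z`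
  have hCX : ∀ n : N, mk n ∈ Subgroup.centralizer ({zX} : Set (N ⧸ BN)) ↔ Commute (n : G) z := by
    intro n
    rw [Subgroup.mem_centralizer_singleton_iff, ← map_mul, ← map_mul, eqk]
    constructor
    · intro e
      have e' : ((n : G) * z)⁻¹ * (z * n) ∈ B := by simpa [zN] using e
      set b := ((n : G) * z)⁻¹ * (z * n) with hb
      have hbn : Commute b (n : G) := mem_cent_iff.1 n.2 b e'
      have hbz : Commute b z := D.five.comm b e'
      have hconj : (n : G)⁻¹ * z * n = z * b := by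
        rw [hb]
        group
      have h2 : b * b = 1 := by
        have h1 : (z * b) * (z * b) = 1 := by
          rw [← hconj, show (n : G)⁻¹ * z * n * ((n : G)⁻¹ * z * n) = (n : G)⁻¹ * (z * z) * n by group, hzz,
            mul_one, inv_mul_cancel]
        rwa [show z * b * (z * b) = z * (b * z) * b by group, hbz.eq, ← mul_assoc z, hzz, one_mul] at h1
      have hb1 := D.one_of_sq e' h2
      rw [hb1, mul_one] at hconj
      calc (n : G) * z = (n : G) * ((n : G)⁻¹ * z * n) := by rw [hconj]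
        _ = z * n := by group
    · intro e
      have : ((n : G) * z)⁻¹ * (z * n) = 1 := by rw [e.eq, inv_mul_cancel]
      show ((n : G) * z)⁻¹ * (z * n) ∈ B
      rw [this]
      exact B.one_mem
  -- `C(z)` modulo `B` is the first side
  let CX := Subgroup.centralizer ({zX} : Set (N ⧸ BN))
  let φ : Kgrp z Q p B →* CX :=
    (mk.comp (Subgroup.inclusion D.K_le)).codRestrict _ fun c => (hCX _).2 (mem_Kgrp.1 c.2).1
  have hφval : ∀ c, (φ c : N ⧸ BN) = mk (Subgroup.inclusion D.K_le c) := fun c => rfl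
  have hφ : Function.Bijective φ := by
    refine ⟨fun a b e => ?_, ?_⟩
    · have e' := (eqk (Subgroup.inclusion D.K_le a) (Subgroup.inclusion D.K_le b)).1
        (congrArg (fun x : CX => (x : N ⧸ BN)) e)
      exact Subtype.ext (inv_mul_eq_one.1
        (D.inter_BK e' ((Kgrp z Q p B).mul_mem ((Kgrp z Q p B).inv_mem a.2) b.2)))
    · rintro ⟨y, hy⟩
      obtain ⟨n, rfl⟩ := hmk y
      obtain ⟨b, hb, hbK⟩ := D.decompose ((hCX n).1 hy) (mem_cent_iff.1 n.2)
      refine ⟨⟨_, hbK⟩, Subtype.ext ((eqk _ n).2 ?_)⟩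
      show ((n : G) * b⁻¹)⁻¹ * n ∈ B
      rwa [mul_inv_rev, inv_inv, mul_assoc, inv_mul_cancel, mul_one]
  have hQK : ∀ c : Kgrp z Q p B, (φ c : N ⧸ BN) ∈ QX ↔ (c : G) ∈ Q := by
    intro c
    constructor
    · rintro ⟨q, hq, e⟩
      have hq' := Subgroup.mem_subgroupOf.1 hq
      have hqK := D.QB_le_K hq'
      have e' := (eqk q _).1 e
      have := inv_mul_eq_one.1 (D.inter_BK e' ((Kgrp z Q p B).mul_mem ((Kgrp z Q p B).inv_mem hqK) c.2))
      have hcq : (q : G) = (c : G) := this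
      exact hcq ▸ hq'.1
    · intro hc
      exact ⟨Subgroup.inclusion D.K_le c, Subgroup.mem_subgroupOf.2 ⟨hc, (Subgroup.inclusion D.K_le c).2⟩, rfl⟩
  have hQinj : Function.Injective (mk.comp QN.subtype) := by
    intro a b e
    have ha := Subgroup.mem_subgroupOf.1 a.2
    have hb := Subgroup.mem_subgroupOf.1 b.2
    have e' := D.inter_BQ ((eqk _ _).1 e) (Q.mul_mem (Q.inv_mem ha.1) hb.1)
    exact Subtype.ext (Subtype.ext (inv_mul_eq_one.1 e'))
  have eQX : ↥(Q ⊓ N) ≃* ↥QX := (Subgroup.subgroupOfEquivOfLe inf_le_right).symm.trans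
    ((MonoidHom.ofInjective hQinj).trans (MulEquiv.subgroupCongr (by
      rw [MonoidHom.range_comp, Subgroup.range_subtype])))
  obtain ⟨π, hπ, hker⟩ := D.exists_quot_K
  have hloc : HJType.Local zX QX := by
    refine ⟨?_, ?_, ?_, CfsgLib.ThreeTrans.isExtraspecial_congr D.five.extra eQX,
      by rw [← Nat.card_congr eQX.toEquiv, D.five.cardQ], ?_, π.comp (MulEquiv.ofBijective φ hφ).symm.toMonoidHom,
      ?_, ?_⟩
    · refine orderOf_eq_prime (by rw [pow_two, ← map_mul, show zN * zN = 1 from Subtype.ext hzz, map_one]) fun e => ?_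
      have e' := (eqk zN 1).1 (e.trans (map_one mk).symm)
      simp only [zN, OneMemClass.coe_one, mul_one, h.large.inv_z] at e'
      exact h.large.z_ne_one (D.inter_BQ e' h.large.z_mem)
    · rintro _ ⟨q, hq, rfl⟩
      exact (hCX q).2 (h.large.commute_z (Subgroup.mem_subgroupOf.1 hq).1)
    · rintro y hy _ ⟨q, hq, rfl⟩
      obtain ⟨n, rfl⟩ := hmk y
      refine ⟨n * q * n⁻¹, Subgroup.mem_subgroupOf.2 ⟨?_, (n * q * n⁻¹).2⟩, by simp⟩
      exact h.large.conj_mem ((hCX n).1 hy) (Subgroup.mem_subgroupOf.1 hq).1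
    · intro y hy hyq
      obtain ⟨⟨c, hc⟩, hcy⟩ := hφ.2 ⟨y, hy⟩
      obtain rfl : (φ ⟨c, hc⟩ : N ⧸ BN) = y := congrArg Subtype.val hcy
      refine (hQK _).2 ?_
      obtain ⟨A, hA, hAc⟩ := D.K_acts hc
      have hcQ : ∀ a ∈ Q, p a ∈ span false → Commute c a := by
        intro a ha hpa
        have haQB := D.mem_QB.2 ⟨ha, hpa⟩
        have e := hyq (mk ⟨a, haQB.2⟩) ⟨⟨a, haQB.2⟩, Subgroup.mem_subgroupOf.2 haQB, rfl⟩
        rw [hφval, ← map_mul, ← map_mul, eqk] at e
        have e' : (c * a)⁻¹ * (a * c) ∈ B := by simpa using e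
        have hK := (Kgrp z Q p B).mul_mem ((Kgrp z Q p B).inv_mem ((Kgrp z Q p B).mul_mem hc (D.QB_le_K haQB)))
          ((Kgrp z Q p B).mul_mem (D.QB_le_K haQB) hc)
        exact inv_mul_eq_one.1 (D.inter_BK e' hK)
      have hone : A = one := by
        obtain ⟨hI, hfix⟩ := cand_spec (even_acts h hA).1
        refine ext_adapted hI.1 rfl fun n hn => ?_
        rw [app_one n (by revert n; decide)]
        rcases allBasis_cases hn with h' | h'
        · obtain ⟨a, ha, rfl⟩ := h.surj n (basis_lt _ n h').1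
          rw [← hAc.2 a ha, (hcQ a ha (basis_lt _ _ h').2).eq, mul_inv_cancel_right]
        · exact hfix n (basis_lt _ n h').2
      exact h.mem_of_acts_one (hone ▸ hAc)
    · exact hπ.comp (MulEquiv.ofBijective φ hφ).symm.surjective
    · intro y
      obtain ⟨c, rfl⟩ := hφ.2 y
      show π ((MulEquiv.ofBijective φ hφ).symm (φ c)) = 1 ↔ _
      rw [show (MulEquiv.ofBijective φ hφ).symm (φ c) = c from
        (MulEquiv.ofBijective φ hφ).symm_apply_apply c, hker, hQK]
  have hkN : k ∈ N := mem_cent_iff.2 fun b hb => (D.kB b hb).symm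
  let kN : N := ⟨k, hkN⟩
  let xN : N := ⟨k * z * k⁻¹, D.x_mem_QB.2⟩
  have hxeq : mk kN * zX * (mk kN)⁻¹ = mk xN := by
    rw [← map_inv, ← map_mul, ← map_mul]
    exact congrArg mk (Subtype.ext (by simp [kN, zN, xN]))
  have hxQX : mk xN ∈ QX := ⟨xN, Subgroup.mem_subgroupOf.2 D.x_mem_QB, rfl⟩
  have hxz : mk xN ≠ zX := by
    intro e
    have e' := (eqk xN zN).1 e
    have : ((xN : G))⁻¹ * z ∈ Q := Q.mul_mem (Q.inv_mem D.frame.memQ) h.large.z_mem
    exact D.frame.x_ne_z (inv_mul_eq_one.1 (D.inter_BQ e' this))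
  have hhyp : HJType.Hyp zX QX := by
    refine ⟨hloc, ⟨mk kN, by rw [hxeq]; exact hxQX, by rw [hxeq]; exact hxz⟩, ?_⟩
    obtain ⟨t, htt, ht1, htz, htB, htc⟩ := D.exists_outer
    let tN : N := ⟨t, mem_cent_iff.2 htB⟩
    refine ⟨zX, mk tN, hloc.hz, ?_, fun hc => htc ?_⟩
    · refine orderOf_eq_prime (by rw [pow_two, ← map_mul, show tN * tN = 1 from Subtype.ext htt, map_one]) fun e => ?_
      have e' := (eqk tN 1).1 (e.trans (map_one mk).symm)
      simp only [tN, OneMemClass.coe_one, mul_one] at e'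
      rw [inv_of_sq htt] at e'
      exact ht1 (D.one_of_sq e' htt)
    · obtain ⟨y, hy⟩ := isConj_iff.1 hc
      obtain ⟨g, rfl⟩ := hmk y
      rw [← map_inv, ← map_mul, ← map_mul, eqk] at hy
      set b := ((g : G) * z * (g : G)⁻¹)⁻¹ * t with hb
      have hbB : b ∈ B := by simpa [zN, tN, hb] using hy
      have e : t = (g : G) * z * (g : G)⁻¹ * b := by rw [hb, mul_inv_cancel_left]
      have hgz : Commute b ((g : G) * z * (g : G)⁻¹) :=
        ((mem_cent_iff.1 g.2 b hbB).mul_right (D.five.comm b hbB)).mul_right (mem_cent_iff.1 g.2 b hbB).inv_right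
      have h2 : b * b = 1 := by
        have h1 := htt
        rw [e, show (g : G) * z * (g : G)⁻¹ * b * ((g : G) * z * (g : G)⁻¹ * b) =
            (g : G) * z * (g : G)⁻¹ * (b * ((g : G) * z * (g : G)⁻¹)) * b by group, hgz.eq,
          show (g : G) * z * (g : G)⁻¹ * ((g : G) * z * (g : G)⁻¹ * b) * b = (g : G) * (z * z) * (g : G)⁻¹ * (b * b) by
            group, hzz, mul_one, mul_inv_cancel, one_mul] at h1
        exact h1
      rw [D.one_of_sq hbB h2, mul_one] at e
      exact isConj_iff.2 ⟨g, e.symm⟩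
  obtain ⟨eJ⟩ := JTwoU.isoJ2 hhyp
  -- the quotient is simple and the extension splits
  haveI : IsSimpleGroup (N ⧸ BN) := by
    haveI := JankoTwo.isSimple_J2
    exact eJ.isSimpleGroup
  set L := commutator N with hL
  have hnc : ¬ IsMulCommutative (N ⧸ BN) := by
    intro hcm
    obtain ⟨a, b, hab⟩ : ∃ a b : alternatingGroup (Fin 5), a * b ≠ b * a := by decide +kernel
    obtain ⟨x, rfl⟩ := hπ a
    obtain ⟨y, rfl⟩ := hπ b
    refine hab ?_
    rw [← map_mul, ← map_mul]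
    congr 1
    exact hφ.1 (by rw [map_mul, map_mul]; exact Subtype.ext (hcm.1.1 _ _))
  have hXperf : commutator (N ⧸ BN) = ⊤ := by
    refine (IsSimpleGroup.eq_bot_or_eq_top_of_normal _ inferInstance).resolve_left fun hb => hnc ?_
    rw [commutator_eq_bot_iff_center_eq_top] at hb
    exact ⟨⟨fun a b => Subgroup.mem_center_iff.mp (hb ▸ Subgroup.mem_top b) a⟩⟩
  have hLX : L.map mk = ⊤ := by
    rw [hL, ← top_le_iff, ← hXperf, commutator_def, commutator_def, Subgroup.map_commutator,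
      Subgroup.map_top_of_surjective _ hmk]
  have hLB : ∀ n ∈ L, (n : G) ∈ B → n = 1 := by
    intro n hn hnB
    by_contra hn1
    have hle : BN ≤ L := by
      intro b hb
      have hnb : n ∈ BN := Subgroup.mem_subgroupOf.2 hnB
      have hc5 : Nat.card BN = 5 := by
        rw [hBN, Nat.card_congr (Subgroup.subgroupOfEquivOfLe D.B_le).toEquiv, D.five.card]
      have hz : Subgroup.zpowers n = BN := Subgroup.eq_of_le_of_card_ge (Subgroup.zpowers_le.2 hnb) (by
        rw [Nat.card_zpowers, hc5, orderOf_eq_prime (p := 5) (Subtype.ext (by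
          rw [SubgroupClass.coe_pow]; exact D.five_torsion hnB)) hn1])
      rw [← hz] at hb
      exact Subgroup.zpowers_le.2 hn hb
    let σ : N →* JankoTwo.P := ((eJ.trans JankoTwo.equivP).toMonoidHom).comp mk
    have hkerσ : σ.ker = BN := by
      ext n
      simp [σ, mk]
    have hstem : Cfsg.IsStemExtension σ :=
      ⟨(eJ.trans JankoTwo.equivP).surjective.comp hmk,
        by rw [hkerσ]; exact fun b hb => Subgroup.mem_center_iff.2 fun n => hBc b hb n, by rw [hkerσ]; exact hle⟩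
    have := JankoTwo.card_ker_le σ hstem
    rw [hkerσ, hBN, Nat.card_congr (Subgroup.subgroupOfEquivOfLe D.B_le).toEquiv, D.five.card] at this
    omega
  have hLbij : Function.Bijective (mk.comp L.subtype) := by
    refine ⟨fun a b e => ?_, fun y => ?_⟩
    · have e' := (eqk a b).1 e
      exact Subtype.ext (inv_mul_eq_one.1 (hLB _ (L.mul_mem (L.inv_mem a.2) b.2) (by simpa using e')))
    · have hy : y ∈ L.map mk := hLX ▸ Subgroup.mem_top y
      obtain ⟨n, hn, rfl⟩ := hy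
      exact ⟨⟨n, hn⟩, rfl⟩
  let eL : L ≃* N ⧸ BN := MulEquiv.ofBijective _ hLbij
  haveI : IsSimpleGroup L := eL.isSimpleGroup
  have hLcomp : Cfsg.IsComponent L := by
    refine ⟨Subgroup.Normal.isSubnormal inferInstance, CfsgLib.Components.isQuasisimple_of_isSimpleGroup fun hcm => hnc ?_⟩
    refine ⟨⟨fun a b => ?_⟩⟩
    apply eL.symm.injective
    rw [map_mul, map_mul]
    exact hcm.1.1 _ _
  have hlayer : Cfsg.layer N = L := by
    refine le_antisymm (CfsgLib.Components.layer_le_iff.2 fun K hK => ?_) (CfsgLib.Components.le_layer hLcomp)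
    have hKp := hK.2.1
    rw [← Subgroup.isPerfect_iff.1 hKp, hL, commutator_def]
    exact Subgroup.commutator_mono le_top le_top
  have hdecomp : ∀ n : N, ∃ b ∈ BN, n * b⁻¹ ∈ L := by
    intro n
    obtain ⟨l, hl⟩ := hLbij.2 (mk n)
    refine ⟨(l : N)⁻¹ * n, QuotientGroup.eq.1 hl, ?_⟩
    rw [mul_inv_rev, inv_inv, mul_inv_cancel_left]
    exact l.2
  have hQL : ∀ n : N, (n : G) ∈ Q → n ∈ L := by
    intro n hnQ
    obtain ⟨b, hb, hbL⟩ := hdecomp n
    have hbB := Subgroup.mem_subgroupOf.1 hb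
    have hn4 : n ^ 4 = 1 := Subtype.ext (by rw [SubgroupClass.coe_pow]; exact D.Q_pow_four hnQ)
    have h4 : (n * b⁻¹) ^ 4 = (b ^ 4)⁻¹ := by
      rw [(show Commute n b⁻¹ from Commute.inv_right (hBc b hb n)).mul_pow, hn4, one_mul, inv_pow]
    have hb4 : (b ^ 4)⁻¹ = 1 := by
      refine hLB _ (h4 ▸ L.pow_mem hbL 4) ?_
      simpa using B.inv_mem (B.pow_mem hbB 4)
    have hb1 : b = 1 := by
      have e5 : b ^ 5 = 1 := Subtype.ext (by rw [SubgroupClass.coe_pow]; exact D.five_torsion hbB)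
      rw [inv_eq_one] at hb4
      rw [pow_succ, hb4, one_mul] at e5
      exact e5
    simpa [hb1] using hbL
  have hKL : ∀ c : Kgrp z Q p B, Subgroup.inclusion D.K_le c ∈ L := by
    intro c
    obtain ⟨u, v, huv⟩ := alt_commutator (π c)
    obtain ⟨u, rfl⟩ := hπ u
    obtain ⟨v, rfl⟩ := hπ v
    have h1 : ((u * v * u⁻¹ * v⁻¹)⁻¹ * c : Kgrp z Q p B).1 ∈ Q := (hker _).1
      (by rw [map_mul, map_inv, map_mul, map_mul, map_mul, map_inv, map_inv, ← huv, inv_mul_cancel])
    have h2 := hQL (Subgroup.inclusion D.K_le ((u * v * u⁻¹ * v⁻¹)⁻¹ * c)) h1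
    have h3 : Subgroup.inclusion D.K_le (u * v * u⁻¹ * v⁻¹) ∈ L := by
      rw [map_mul, map_mul, map_mul, map_inv, map_inv, hL, ← commutatorElement_def]
      exact Subgroup.commutator_mem_commutator (Subgroup.mem_top _) (Subgroup.mem_top _)
    have := L.mul_mem h3 h2
    rwa [← map_mul, mul_inv_cancel_left] at this
  refine ⟨L, hlayer, ⟨eL.trans eJ⟩, fun c hc => ⟨_, hKL ⟨c, hc⟩, rfl⟩, fun n hn => ?_, fun S hKS hkS => ?_⟩
  · obtain ⟨b, hb, hbL⟩ := hdecomp ⟨n, hn⟩
    exact ⟨b, Subgroup.mem_subgroupOf.1 hb, _, hbL, by simp⟩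
  -- generation
  set SN := S.subgroupOf N with hSN
  set H := SN.map mk with hH
  have hCH : Subgroup.centralizer ({zX} : Set (N ⧸ BN)) ≤ H := by
    intro y hy
    obtain ⟨c, hc⟩ := hφ.2 ⟨y, hy⟩
    exact ⟨Subgroup.inclusion D.K_le c, Subgroup.mem_subgroupOf.2 (hKS c.2), congrArg Subtype.val hc⟩
  have hCxH : Subgroup.centralizer ({mk xN} : Set (N ⧸ BN)) ≤ H := by
    intro y hy
    have hy' : (mk kN)⁻¹ * y * mk kN ∈ CX := by
      refine Subgroup.mem_centralizer_singleton_iff.2 ?_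
      have hc : Commute y (mk kN * zX * (mk kN)⁻¹) := hxeq.symm ▸ (Subgroup.mem_centralizer_singleton_iff.1 hy)
      have := (LargeData.commute_conj_iff' (g := (mk kN)⁻¹)).2 hc
      rwa [inv_inv, show (mk kN)⁻¹ * (mk kN * zX * (mk kN)⁻¹) * mk kN = zX by group] at this
    obtain ⟨c, hc⟩ := hφ.2 ⟨_, hy'⟩
    have hc' : mk (Subgroup.inclusion D.K_le c) = (mk kN)⁻¹ * y * mk kN := congrArg Subtype.val hc
    refine ⟨kN * Subgroup.inclusion D.K_le c * kN⁻¹, Subgroup.mem_subgroupOf.2 (hkS c c.2), ?_⟩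
    rw [map_mul, map_mul, map_inv, hc']
    group
  have hx2 : mk xN * mk xN = 1 := by
    rw [← map_mul, show xN * xN = 1 from Subtype.ext (conj_sq_one hzz k), map_one]
  have hx1 : mk xN ≠ 1 := fun e => hloc.z_ne (conj_eq_one_iff.1 (hxeq.trans e))
  obtain ⟨Q', F4⟩ := hhyp.exists_four hxQX hx2 hx1 hxz
  obtain ⟨hp1, hp2, hp3⟩ := F4.prod_ne
  have hzx : zX * mk xN = mk xN * zX := F4.comm
  have hQ'mem : zX * mk xN ∈ Q' := Q'.mul_mem F4.mem' F4.hu.loc.z_mem
  obtain ⟨c, hcC, hcz⟩ := F4.hu.loc.inner_conj F4.mem' hloc.zz ⟨hloc.z_ne, fun e => F4.ne e.symm⟩ hQ'mem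
    (by rw [hzx]; exact F4.prod_sq) ⟨fun e => hp1 (hzx ▸ e), fun e => hp3 (hzx ▸ e)⟩
  have hQmem : mk xN * zX ∈ QX := QX.mul_mem F4.mem hloc.z_mem
  obtain ⟨q, hqC, hqx⟩ := hloc.inner_conj F4.mem hx2 ⟨hx1, F4.ne⟩ hQmem F4.prod_sq ⟨hp1, hp2⟩
  have hcx : c * mk xN = mk xN * c := Subgroup.mem_centralizer_singleton_iff.1 hcC
  have hqz : q * zX = zX * q := Subgroup.mem_centralizer_singleton_iff.1 hqC
  have e1 : c * (zX * mk xN) * c⁻¹ = zX := by
    rw [show c * (zX * mk xN) * c⁻¹ = c * zX * c⁻¹ * (c * mk xN * c⁻¹) by group, hcz, hcx, mul_inv_cancel_right,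
      mul_assoc, hx2, mul_one]
  have e2 : q * (zX * mk xN) * q⁻¹ = mk xN := by
    rw [show q * (zX * mk xN) * q⁻¹ = q * zX * q⁻¹ * (q * mk xN * q⁻¹) by group, hqx, hqz, mul_inv_cancel_right,
      ← mul_assoc, hzx, mul_assoc, hloc.zz, mul_one]
  have e3 : c * q * c⁻¹ * zX * (c * q * c⁻¹)⁻¹ = mk xN := by
    have e1' : c⁻¹ * zX * c = zX * mk xN := by
      calc c⁻¹ * zX * c = c⁻¹ * (c * (zX * mk xN) * c⁻¹) * c := by rw [e1]
        _ = _ := by group
    calc c * q * c⁻¹ * zX * (c * q * c⁻¹)⁻¹ = c * (q * (c⁻¹ * zX * c) * q⁻¹) * c⁻¹ := by group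
      _ = c * mk xN * c⁻¹ := by rw [e1', e2]
      _ = mk xN := by rw [hcx, mul_inv_cancel_right]
  have htop : H = ⊤ := JTwoU.eq_top_of_le hhyp F4 H hCH
    (g := c * q * c⁻¹) (H.mul_mem (H.mul_mem (hCxH hcC) (hCH hqC)) (H.inv_mem (hCxH hcC))) e3
  have hLS : L ≤ SN := by
    rw [hL, commutator_def, Subgroup.commutator_le]
    intro g1 _ g2 _
    obtain ⟨s1, hs1, hb1⟩ : ∃ s ∈ SN, mk s = mk g1 :=
      (show mk g1 ∈ H by rw [htop]; exact Subgroup.mem_top _)
    obtain ⟨s2, hs2, hb2⟩ : ∃ s ∈ SN, mk s = mk g2 :=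
      (show mk g2 ∈ H by rw [htop]; exact Subgroup.mem_top _)
    have c1 := hBc _ (QuotientGroup.eq.1 hb1)
    have c2 := hBc _ (QuotientGroup.eq.1 hb2)
    have : ⁅g1, g2⁆ = ⁅s1, s2⁆ := by
      have := commutator_central (a := s1) (b := s2) (c := s1⁻¹ * g1) (d := s2⁻¹ * g2)
        (fun n => (c1 n).symm) (fun n => (c2 n).symm)
      rwa [mul_inv_cancel_left, mul_inv_cancel_left] at this
    rw [this, commutatorElement_def]
    exact SN.mul_mem (SN.mul_mem (SN.mul_mem hs1 hs2) (SN.inv_mem hs1)) (SN.inv_mem hs2)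
  rintro _ ⟨l, hl, rfl⟩
  exact Subgroup.mem_subgroupOf.1 (hLS hl)

end Adapted

end CfsgLib.Recog.CoOneFive
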