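import Cfsg.Agent.Lib.Recog.CoOneFive.Quotient

/-!
The centralizer of the layer of the centralizer of the group of order five is alternating of degree five
(owner: helper4): it is the intersection of two conjugate subgroups of order `1920` in a group of order at most
`64 * 960`.
-/

set_option autoImplicit false
set_option linter.all false

namespace CfsgLib.Recog.CoOneFive

open CfsgLib.Recog.CoOneType CfsgLib.ThreeTrans

variable {G : Type*} [Group G] [Finite G] {z : G} {Q : Subgroup G} {p : G → Nat} {k : G} {B : Subgroup G}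

theorem perp_count : ((List.range 256).filter fun n => [1, 12, 52].all fun m => !bb n m).length = 32 := by
  decide +kernel

namespace Adapted

variable (D : Adapted z Q p k B)
include D

theorem card_M : Nat.card (Mgrp z Q B) = 1920 := by
  obtain ⟨π, hπ, hker⟩ := D.exists_quot_M
  have hk : Nat.card π.ker = 32 := by
    have h1 := card_fibre D.frame.sys (five_len true).2.2.2 fun n hn => span_lt hn
    rw [(five_len true).2.2.1] at h1
    refine Eq.trans (Nat.card_congr (β := {a : G // a ∈ Q ∧ p a ∈ span true})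
      { toFun := fun m => ⟨((m : Mgrp z Q B) : G), (hker _).1 m.2, (D.Q_M ((hker _).1 m.2)).1 m.1.2⟩
        invFun := fun a => ⟨⟨a, (D.Q_M a.2.1).2 a.2.2⟩, (hker _).2 a.2.1⟩
        left_inv := fun m => rfl
        right_inv := fun a => rfl }) h1
  rw [← π.ker.card_mul_index, Subgroup.index_ker, MonoidHom.range_eq_top.2 hπ, Subgroup.card_top, hk,
    Nat.card_eq_fintype_card, show Fintype.card (alternatingGroup (Fin 5)) = 60 by decide +kernel]

/-- The common centralizer in which the two subgroups lie. -/
theorem card_bound : Nat.card (Subgroup.centralizer ({z} : Set G) ⊓ Subgroup.centralizer ({k * z * k⁻¹} : Set G) ⊓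
    Subgroup.centralizer ((Q ⊓ Subgroup.centralizer (B : Set G) ⊓
      Subgroup.centralizer ({k * z * k⁻¹} : Set G) : Subgroup G) : Set G) : Subgroup G) ≤ 61440 := by
  classical
  have h := D.frame.sys
  set X := k * z * k⁻¹ with hX
  set R := (Subgroup.centralizer ({z} : Set G) ⊓ Subgroup.centralizer ({X} : Set G) ⊓
    Subgroup.centralizer ((Q ⊓ Subgroup.centralizer (B : Set G) ⊓
      Subgroup.centralizer ({X} : Set G) : Subgroup G) : Set G) : Subgroup G) with hR
  have memR : ∀ c ∈ R, Commute c z ∧ Commute c X ∧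
      ∀ a ∈ Q, p a ∈ span false → bb (p a) 1 = false → Commute a c := by
    intro c hc
    refine ⟨Subgroup.mem_centralizer_singleton_iff.1 hc.1.1, Subgroup.mem_centralizer_singleton_iff.1 hc.1.2,
      fun a ha hp h1 => ?_⟩
    exact Subgroup.mem_centralizer_iff.1 hc.2 a
      ⟨D.mem_QB.2 ⟨ha, hp⟩, Subgroup.mem_centralizer_singleton_iff.2 ((D.frame.comm_x ha).2 h1)⟩
  have s1 : (1 : Nat) ∈ span false ∧ bb 1 1 = false := by decide +kernel
  have s12 : (12 : Nat) ∈ span false ∧ bb 12 1 = false := by decide +kernel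
  have s52 : (52 : Nat) ∈ span false ∧ bb 52 1 = false := by decide +kernel
  have fixes : ∀ c ∈ R, ∀ A, Acts z Q p c A → ∀ m, m ∈ span false → bb m 1 = false → app A m = m := by
    intro c hc A hA m hm hm1
    obtain ⟨a, ha, rfl⟩ := h.surj m (span_lt hm)
    rw [← hA.2 a ha, ← ((memR c hc).2.2 a ha hm hm1).eq, mul_inv_cancel_right]
  set imgs := (span true).flatMap fun v => (even true).map fun E => comp (rho v) E with himgs
  have himlen : imgs.length = 960 := by
    rw [himgs, List.length_flatMap]
    simp [(even_len true).1, (five_len true).2.2.1]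
  have himg : ∀ c ∈ R, ∃ A ∈ imgs, Acts z Q p c A := by
    intro c hc
    obtain ⟨A, hA, hAc⟩ := h.exists_acts (memR c hc).1
    have f1 := fixes c hc A hAc 1 s1.1 s1.2
    have f12 := fixes c hc A hAc 12 s12.1 s12.2
    have f52 := fixes c hc A hAc 52 s52.1 s52.2
    set n := app A 2 with hn
    have hnlt : n < 256 := (hA.2 2 (by norm_num)).1
    have hnq : qb n = false := (hA.2 2 (by norm_num)).2
    have hn1 : bb n 1 = true := by
      have := hA.bb_app (show (2 : Nat) < 256 by norm_num) (show (1 : Nat) < 256 by norm_num)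
      rw [f1] at this
      rw [this]; rfl
    have hn12 : bb n 12 = false := by
      have := hA.bb_app (show (2 : Nat) < 256 by norm_num) (show (12 : Nat) < 256 by norm_num)
      rw [f12] at this
      rw [this]; decide
    have hn52 : bb n 52 = false := by
      have := hA.bb_app (show (2 : Nat) < 256 by norm_num) (show (52 : Nat) < 256 by norm_num)
      rw [f52] at this
      rw [this]; decide
    set v := n &&& 252 with hv
    have hvs : v ∈ sect := reduce_mem n hnlt
    obtain ⟨hrI, hrr, hr1⟩ := rho_props hvs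
    have hvU : v ∈ span true := by
      have := List.all_eq_true.1 shift_plane n (List.mem_range.2 hnlt)
      simpa [hnq, hn1, hn12, hn52] using this
    have hr2 : app (rho v) 2 = n := by
      have := List.all_eq_true.1 shift_two n (List.mem_range.2 hnlt)
      simpa [hnq, hn1] using this
    have hrf := List.all_eq_true.1 rho_plane v hvU
    simp only [Bool.and_eq_true, fixB, beq_iff_eq] at hrf
    obtain ⟨⟨-, g12⟩, g52⟩ := hrf
    obtain ⟨s, hs⟩ := D.frame.exists_s' hvs
    obtain ⟨E, hE, hEc⟩ := h.exists_acts (hs.1.mul_left hAc.1)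
    have hEq : E = comp (rho v) A :=
      h.acts_unique hE.1 (by rw [length_comp, hA.1]) hEc (h.acts_mul hA.1 hs hAc)
    have hEcand : E ∈ cand true := mem_cand hE fun m hm => by
      rw [hEq, app_comp hA.1]
      simp only [Bool.not_true, basis, List.mem_cons, List.not_mem_nil, or_false] at hm
      rcases hm with rfl | rfl | rfl | rfl
      · rw [f1, hr1]
      · rw [← hn, ← hr2, app_of_comp (length_rho v) hrr (by norm_num)]
      · rw [f12, g12]
      · rw [f52, g52]
    refine ⟨A, ?_, hAc⟩
    refine List.mem_flatMap.2 ⟨v, hvU, List.mem_map.2 ⟨E, even_of_induced D.frame hEcand hEc, ?_⟩⟩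
    rw [hEq, comp_assoc (length_rho v), hrr]
    exact comp_app_congr (by rw [length_comp, hA.1]) hA.1 fun m hm => by
      rw [app_comp hA.1, app_one _ (hA.2 m hm).1]
  -- the part inside `Q`
  set K0 := Q.subgroupOf R with hK0
  have hK0card : Nat.card K0 ≤ 64 := by
    have h1 := card_fibre h (List.nodup_range.filter _ :
      ((List.range 256).filter fun n => [1, 12, 52].all fun m => !bb n m).Nodup)
      fun n hn => List.mem_range.1 (List.mem_filter.1 hn).1
    rw [perp_count] at h1
    rw [← show (64 : ℕ) = 2 * 32 from rfl] at h1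
    refine le_of_le_of_eq (Nat.card_le_card_of_injective (fun c : K0 =>
      (⟨((c : R) : G), Subgroup.mem_subgroupOf.1 c.2, ?_⟩ : {a : G // a ∈ Q ∧ p a ∈
        (List.range 256).filter fun n => [1, 12, 52].all fun m => !bb n m})) ?_) h1
    · have hcQ : ((c : R) : G) ∈ Q := Subgroup.mem_subgroupOf.1 c.2
      simp only [List.mem_filter, List.mem_range, List.all_eq_true, Bool.not_eq_true']
      refine ⟨h.lt _ hcQ, fun m hm => ?_⟩
      have hms : m ∈ span false ∧ bb m 1 = false := by
        simp only [List.mem_cons, List.not_mem_nil, or_false] at hm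
        rcases hm with rfl | rfl | rfl
        exacts [s1, s12, s52]
      obtain ⟨a, ha, rfl⟩ := h.surj m (span_lt hms.1)
      exact (h.commute_iff hcQ ha).1 ((memR _ (c : R).2).2.2 a ha hms.1 hms.2).symm
    · intro a b e
      exact Subtype.ext (Subtype.ext (congrArg (fun x : {a : G // a ∈ Q ∧ _} => (x : G)) e))
  choose A hAm hAc using fun x : R ⧸ K0 => himg (x.out : R) (x.out : R).2
  have hinj : Function.Injective A := by
    intro x y e
    have hq := h.inv_mul_mem (hAc x) (e ▸ hAc y)
    have : (x.out : R)⁻¹ * y.out ∈ K0 := Subgroup.mem_subgroupOf.2 (by simpa using hq)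
    have := QuotientGroup.eq.2 this
    simpa using this
  have hquot : Nat.card (R ⧸ K0) ≤ 960 := by
    haveI := Fintype.ofFinite (R ⧸ K0)
    rw [Nat.card_eq_fintype_card, ← Finset.card_univ, ← himlen]
    exact le_trans (Finset.card_le_card_of_injOn A (fun x _ => List.mem_toFinset.2 (hAm x)) hinj.injOn)
      (List.toFinset_card_le _)
  rw [Subgroup.card_eq_card_quotient_mul_card_subgroup K0]
  exact le_trans (Nat.mul_le_mul hquot hK0card) (by norm_num)

/-- The centralizer of the layer. -/
theorem centralizer_layer {L : Subgroup G} (hKL : Kgrp z Q p B ≤ L) (hLN : L ≤ Subgroup.centralizer (B : Set G))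
    (hdec : ∀ n ∈ Subgroup.centralizer (B : Set G), ∃ b ∈ B, n * b⁻¹ ∈ L)
    (hgen : ∀ S : Subgroup G, Kgrp z Q p B ≤ S → (∀ c ∈ Kgrp z Q p B, k * c * k⁻¹ ∈ S) → L ≤ S) :
    Nonempty (↥(Subgroup.centralizer (L : Set G)) ≃* alternatingGroup (Fin 5)) := by
  classical
  have h := D.frame.sys
  set Y := Subgroup.centralizer (L : Set G) with hY
  set M := Mgrp z Q B with hM
  set X := k * z * k⁻¹ with hX
  have hzK : z ∈ Kgrp z Q p B := D.QB_le_K D.z_mem_QB
  have hxK : X ∈ Kgrp z Q p B := D.QB_le_K D.x_mem_QB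
  have hYM : Y ≤ M := by
    intro y hy
    have hy' := Subgroup.mem_centralizer_iff.1 hy
    refine D.mem_Mgrp.2 ⟨(hy' z (hKL hzK)).symm, fun a ha hp => hy' a (hKL (D.QB_le_K (D.mem_QB.2 ⟨ha, hp⟩)))⟩
  -- the action is faithful
  obtain ⟨π, hπ, hker⟩ := D.exists_quot_M
  let f : Y →* alternatingGroup (Fin 5) := π.comp (Subgroup.inclusion hYM)
  obtain ⟨b, hb, hbL⟩ := hdec k (mem_cent_iff.2 fun c hc => (D.kB c hc).symm)
  set l := k * b⁻¹ with hl
  have hbz : Commute b z := D.five.comm b hb
  have hlz : l * z * l⁻¹ = X := by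
    rw [hl, show k * b⁻¹ * z * (k * b⁻¹)⁻¹ = k * (b⁻¹ * z * b⁻¹⁻¹) * k⁻¹ by group, hbz.inv_left.eq,
      mul_inv_cancel_right]
  have hfinj : Function.Injective f := by
    refine (injective_iff_map_eq_one f).2 fun y hy => Subtype.ext ?_
    have hyQ : (y : G) ∈ Q := (hker _).1 hy
    have hU := (D.Q_M hyQ).1 (hYM y.2)
    have hly : Commute l (y : G) := Subgroup.mem_centralizer_iff.1 y.2 l hbL
    have hyP : (y : G) ∈ Q.map (MulAut.conj k).toMonoidHom := by
      refine mem_conjMap.2 ?_
      have := h.large.conj_mem hbz.inv_left hyQ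
      rwa [show b⁻¹ * (y : G) * b⁻¹⁻¹ = k⁻¹ * (l * y * l⁻¹) * k by rw [hl]; group, hly.eq, mul_inv_cancel_right] at this
    have h1 : (1 : Nat) ∉ span true := by decide +kernel
    rcases D.frame.inter_p hyQ hyP with e | e
    · rcases h.ker _ hyQ e with e1 | e1
      · exact e1
      · exfalso
        rw [e1] at hly
        rw [hly.eq, mul_inv_cancel_right] at hlz
        exact D.frame.x_ne_z hlz.symm
    · exact absurd (e ▸ hU) h1
  -- the intersection
  set M' := M.map (MulAut.conj k).toMonoidHom with hM'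
  have hI : M ⊓ M' ≤ Y := by
    intro m hm
    refine Subgroup.mem_centralizer_iff.2 fun a ha => ?_
    refine (Subgroup.mem_centralizer_singleton_iff.1 ((hgen (Subgroup.centralizer ({m} : Set G))
      (fun c hc => Subgroup.mem_centralizer_singleton_iff.2 (D.commute_K_M hc hm.1).symm) fun c hc => ?_) ha))
    refine Subgroup.mem_centralizer_singleton_iff.2 ?_
    have := (LargeData.commute_conj_iff' (g := k)).2 (D.commute_K_M hc (mem_conjMap.1 hm.2)).symm
    rwa [show k * (k⁻¹ * m * k) * k⁻¹ = m by group] at this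
  set R := (Subgroup.centralizer ({z} : Set G) ⊓ Subgroup.centralizer ({X} : Set G) ⊓
    Subgroup.centralizer ((Q ⊓ Subgroup.centralizer (B : Set G) ⊓
      Subgroup.centralizer ({X} : Set G) : Subgroup G) : Set G) : Subgroup G) with hR
  have hMR : M ≤ R := by
    intro m hm
    refine ⟨⟨Subgroup.mem_centralizer_singleton_iff.2 (D.mem_Mgrp.1 hm).1,
      Subgroup.mem_centralizer_singleton_iff.2 (D.commute_K_M hxK hm)⟩,
      Subgroup.mem_centralizer_iff.2 fun a ha => (D.commute_K_M (D.QB_le_K ha.1) hm).symm.eq⟩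
  have key : ∀ a ∈ Q ⊓ Subgroup.centralizer (B : Set G), Commute a X → k⁻¹ * a * k ∈ Kgrp z Q p B := by
    intro a ha hax
    have hkB : ∀ c ∈ B, Commute c k := fun c hc => (D.kB c hc).symm
    have hnz : Commute (k⁻¹ * a * k) z := by
      have := (LargeData.commute_conj_iff' (g := k⁻¹)).2 hax
      rwa [inv_inv, hX, show k⁻¹ * (k * z * k⁻¹) * k = z by group] at this
    have hnB : ∀ c ∈ B, Commute c (k⁻¹ * a * k) := fun c hc =>
      ((hkB c hc).inv_right.mul_right (mem_cent_iff.1 ha.2 c hc)).mul_right (hkB c hc)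
    obtain ⟨c, hc, hcK⟩ := D.decompose hnz hnB
    have h4 : (k⁻¹ * a * k) ^ 4 = 1 := by
      have : (MulAut.conj k⁻¹) a = k⁻¹ * a * k := by simp
      rw [← this, ← map_pow, D.Q_pow_four ha.1, map_one]
    have hc4 : c ^ 4 ∈ Kgrp z Q p B := by
      have h1 := (Kgrp z Q p B).pow_mem hcK 4
      rw [((hnB c hc).symm.inv_right).mul_pow, h4, one_mul, inv_pow] at h1
      have := (Kgrp z Q p B).inv_mem h1
      rwa [inv_inv] at this
    have hc1 : c = 1 := by
      have e5 := D.five_torsion hc
      rw [pow_succ, D.inter_BK (B.pow_mem hc 4) hc4, one_mul] at e5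
      exact e5
    rwa [hc1, inv_one, mul_one] at hcK
  have hM'R : M' ≤ R := by
    rintro _ ⟨m, hm, rfl⟩
    have conj : ∀ a, k⁻¹ * a * k ∈ Kgrp z Q p B → Commute ((MulAut.conj k).toMonoidHom m) a := by
      intro a ha
      have := (LargeData.commute_conj_iff' (g := k)).2 (D.commute_K_M ha hm)
      rwa [show k * (k⁻¹ * a * k) * k⁻¹ = a by group] at this
    refine ⟨⟨Subgroup.mem_centralizer_singleton_iff.2 (conj z ?_), Subgroup.mem_centralizer_singleton_iff.2 (conj X ?_)⟩,
      Subgroup.mem_centralizer_iff.2 fun a ha => (conj a (key a ha.1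
        (Subgroup.mem_centralizer_singleton_iff.1 ha.2))).symm.eq⟩
    · have e := D.kx
      rw [← hX] at e
      rwa [show k⁻¹ * z * k = X by
        calc k⁻¹ * z * k = k⁻¹ * (k * X * k⁻¹) * k := by rw [e]
          _ = X := by group]
    · rwa [show k⁻¹ * X * k = z by rw [hX]; group]
  have hcM := D.card_M
  have hcM' : Nat.card M' = 1920 := by
    rw [hM', ← Nat.card_congr ((M.equivMapOfInjective _ (MulAut.conj k).injective).toEquiv), hcM]
  have hrel : M'.relIndex R ≤ 32 := by
    have e := (M'.subgroupOf R).card_mul_index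
    rw [Nat.card_congr (Subgroup.subgroupOfEquivOfLe hM'R).toEquiv, hcM'] at e
    have hR' := D.card_bound
    rw [← hX, ← hR, ← e] at hR'
    show (M'.subgroupOf R).index ≤ 32
    omega
  have hne : M'.relIndex R ≠ 0 := Subgroup.index_ne_zero_of_finite
  have hle : M'.relIndex M ≤ 32 := le_trans (Subgroup.relIndex_le_of_le_right hMR hne) hrel
  have hcard : 60 ≤ Nat.card Y := by
    have e := (M'.subgroupOf M).card_mul_index
    rw [hcM, ← Subgroup.inf_subgroupOf_left,
      Nat.card_congr (Subgroup.subgroupOfEquivOfLe (inf_le_left : M ⊓ M' ≤ M)).toEquiv] at e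
    have h1 : (M ⊓ M' : Subgroup G).relIndex M = M'.relIndex M := Subgroup.inf_relIndex_left M M'
    have hmono : Nat.card (M ⊓ M' : Subgroup G) ≤ Nat.card Y := Subgroup.card_le_of_le hI
    have h2 : ((M ⊓ M').subgroupOf M).index ≤ 32 := by
      rw [← h1] at hle
      exact hle
    nlinarith
  haveI := Fintype.ofFinite Y
  have hc60 : Fintype.card (alternatingGroup (Fin 5)) = 60 := by decide +kernel
  have hb' : Function.Bijective f := by
    refine (Fintype.bijective_iff_injective_and_card f).2 ⟨hfinj, le_antisymm (Fintype.card_le_of_injective f hfinj) ?_⟩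
    rw [hc60, ← Nat.card_eq_fintype_card]
    exact hcard
  exact ⟨MulEquiv.ofBijective f hb'⟩

end Adapted

end CfsgLib.Recog.CoOneFive
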