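import Cfsg.Agent.Lib.Recog.CoOneFive.Parity

/-!
The centralizers of the fixed group and of its orthogonal complement in the centralizer of `z` (owner: helper4).
-/

set_option autoImplicit false
set_option linter.unusedSectionVars false
set_option linter.unusedVariables false
set_option linter.style.haveILetI false

namespace CfsgLib.Recog.CoOneFive

open CfsgLib.Recog.CoOneType CfsgLib.ThreeTrans

variable {G : Type*} [Group G] [Finite G] {z : G} {Q : Subgroup G} {p : G → Nat} {k : G} {B : Subgroup G}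

/-- The part of the centralizer of `z` and the group that centralizes the complement. -/
def Kgrp (z : G) (Q : Subgroup G) (p : G → Nat) (B : Subgroup G) : Subgroup G :=
  Subgroup.centralizer ({z} : Set G) ⊓ Subgroup.centralizer (B : Set G) ⊓
    Subgroup.centralizer {a : G | a ∈ Q ∧ p a ∈ span true}

/-- The centralizer of the fixed group in the centralizer of `z`. -/
def Mgrp (z : G) (Q : Subgroup G) (B : Subgroup G) : Subgroup G :=
  Subgroup.centralizer ({z} : Set G) ⊓ Subgroup.centralizer ((Q ⊓ Subgroup.centralizer (B : Set G) : Subgroup G) : Set G)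

theorem mem_Kgrp {c : G} : c ∈ Kgrp z Q p B ↔
    Commute c z ∧ (∀ b ∈ B, Commute b c) ∧ ∀ a ∈ Q, p a ∈ span true → Commute a c := by
  rw [Kgrp, Subgroup.mem_inf, Subgroup.mem_inf, mem_cent_iff, Subgroup.mem_centralizer_singleton_iff,
    Subgroup.mem_centralizer_iff]
  exact ⟨fun h => ⟨h.1.1, h.1.2, fun a ha hu => h.2 a ⟨ha, hu⟩⟩, fun h => ⟨⟨h.1, h.2.1⟩, fun a ha => h.2.2 a ha.1 ha.2⟩⟩

/-- Elements over a basis of a side generate its preimage. -/
theorem gen_side (h : Sys z Q p) {s : Bool} {S : Subgroup G} (hzS : z ∈ S)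
    (hb : ∀ n ∈ basis s, ∃ a ∈ Q, p a = n ∧ a ∈ S) {a : G} (ha : a ∈ Q) (hpa : p a ∈ span s) : a ∈ S := by
  have key : ∀ n ∈ span s, ∃ x ∈ Q, p x = n ∧ x ∈ S := fun n hn => span_subset (s := s)
    (P := fun n => ∃ x ∈ Q, p x = n ∧ x ∈ S) ⟨1, Q.one_mem, h.p_one, S.one_mem⟩
    (fun u v ⟨x, hx, ex, hxS⟩ ⟨y, hy, ey, hyS⟩ =>
      ⟨x * y, Q.mul_mem hx hy, by rw [h.map_mul x hx y hy, ex, ey], S.mul_mem hxS hyS⟩) hb hn
  obtain ⟨x, hx, hpx, hxS⟩ := key _ hpa
  obtain ⟨i, e⟩ := h.eq_of_p hx ha hpx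
  rw [e]
  refine S.mul_mem hxS ?_
  cases i
  · exact S.one_mem
  · exact hzS

/-- An action on the five singular vectors with kernel `Q`. -/
theorem exists_quot (F : Frame z Q p k) (s : Bool) (H : Subgroup G) (hz : ∀ c ∈ H, Commute c z)
    (hacts : ∀ c ∈ H, ∃ A ∈ even s, Acts z Q p c A) (hlift : ∀ A ∈ even s, ∃ c ∈ H, Acts z Q p c A) :
    ∃ π : H →* alternatingGroup (Fin 5), Function.Surjective π ∧ ∀ c : H, π c = 1 ↔ (c : G) ∈ Q := by
  classical
  obtain ⟨π, hπ⟩ := exists_pi F.sys s H hz fun c hc => by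
    obtain ⟨A, hA, hAc⟩ := hacts c hc
    exact ⟨A, hA, fun a ha _ => hAc.2 a ha⟩
  have hfl : ∀ i : Fin 5, (five s).getD i.1 0 < 256 := fun i => by
    rw [List.getD_eq_getElem _ _ (by rw [(five_len s).1]; exact i.2)]
    exact span_lt (mem_five.1 (List.getElem_mem _)).1
  have hinj : ∀ i j : Fin 5, (five s).getD i.1 0 = (five s).getD j.1 0 → i = j := fun i j e => by
    have hi : i.1 < (five s).length := by rw [(five_len s).1]; exact i.2
    have hj : j.1 < (five s).length := by rw [(five_len s).1]; exact j.2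
    rw [List.getD_eq_getElem _ _ hi, List.getD_eq_getElem _ _ hj] at e
    exact Fin.ext ((List.Nodup.getElem_inj_iff (five_len s).2.1).1 e)
  refine ⟨π, fun σ => ?_, fun c => ⟨fun e => ?_, fun hc => ?_⟩⟩
  · obtain ⟨A, hA, hAσ⟩ := exists_even s σ
    obtain ⟨c, hc, hAc⟩ := hlift A hA
    refine ⟨⟨c, hc⟩, Subtype.ext (Equiv.ext fun i => hinj _ _ ?_)⟩
    obtain ⟨a, ha, hpa⟩ := F.sys.surj _ (hfl i)
    rw [← hπ ⟨c, hc⟩ i a ha hpa, hAc.2 a ha, hpa, hAσ i]
  · obtain ⟨A, hA, hAc⟩ := hacts c c.2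
    have hone : A = one := (even_perm hA).2 fun n hn => by
      obtain ⟨i, hi, rfl⟩ := List.getElem_of_mem hn
      have hi5 : i < 5 := (five_len s).1 ▸ hi
      obtain ⟨a, ha, hpa⟩ := F.sys.surj _ (span_lt (mem_five.1 hn).1)
      have h1 := hπ c ⟨i, hi5⟩ a ha (by rw [hpa]; exact (List.getD_eq_getElem _ _ hi).symm)
      rw [hAc.2 a ha, hpa, e] at h1
      rw [h1]
      exact List.getD_eq_getElem _ _ hi
    exact F.sys.mem_of_acts_one (hone ▸ hAc)
  · refine Subtype.ext (Equiv.ext fun i => hinj _ _ ?_)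
    obtain ⟨a, ha, hpa⟩ := F.sys.surj _ (hfl i)
    rw [← hπ c i a ha hpa, F.sys.p_conj_q ha hc, hpa]
    rfl

namespace Adapted

variable (D : Adapted z Q p k B)
include D

theorem mem_QB {a : G} : a ∈ Q ⊓ Subgroup.centralizer (B : Set G) ↔ a ∈ Q ∧ p a ∈ span false := by
  rw [Subgroup.mem_inf, mem_cent_iff]
  exact ⟨fun h => ⟨h.1, (D.memW a h.1).1 h.2⟩, fun h => ⟨h.1, (D.memW a h.1).2 h.2⟩⟩

theorem mem_Mgrp {c : G} : c ∈ Mgrp z Q B ↔ Commute c z ∧ ∀ a ∈ Q, p a ∈ span false → Commute a c := by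
  rw [Mgrp, Subgroup.mem_inf, Subgroup.mem_centralizer_singleton_iff, Subgroup.mem_centralizer_iff]
  refine and_congr Iff.rfl ⟨fun h a ha hp => h a (D.mem_QB.2 ⟨ha, hp⟩), fun h a ha => ?_⟩
  obtain ⟨ha1, ha2⟩ := D.mem_QB.1 ha
  exact h a ha1 ha2

theorem five_elem {b : G} (hb : b ∈ B) (hb1 : b ≠ 1) :
    orderOf b = 5 ∧ b ∉ Q ∧ ∃ E, E ∈ fives ∧ E ∈ cand true ∧ Acts z Q p b E := by
  haveI : Fact (Nat.Prime 5) := ⟨by norm_num⟩
  have h5 : b ^ 5 = 1 := by
    have := pow_card_eq_one' (x := (⟨b, hb⟩ : B))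
    rw [D.five.card] at this
    exact congrArg Subtype.val this
  have hord : orderOf b = 5 := orderOf_eq_prime h5 hb1
  have hbQ : b ∉ Q := fun hQ => by
    have h1 : orderOf (⟨b, hQ⟩ : Q) ∣ Nat.card Q := orderOf_dvd_natCard _
    rw [Subgroup.orderOf_mk, hord, D.frame.sys.card] at h1
    norm_num at h1
  obtain ⟨E, hE, hEb⟩ := D.frame.sys.exists_acts (D.five.comm b hb)
  have hfix : ∀ n ∈ basis false, app E n = n := by
    intro n hn
    obtain ⟨a, ha, rfl⟩ := D.frame.sys.surj n (basis_lt false n hn).1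
    rw [← hEb.2 a ha, ((D.memW a ha).2 (basis_lt false _ hn).2 b hb).eq, mul_inv_cancel_right]
  have hc := mem_cand (s := true) hE hfix
  refine ⟨hord, hbQ, E, fives_sub E (even_of_induced D.frame hc hEb) ?_ ?_, hc, hEb⟩
  · rintro rfl
    exact hbQ (D.frame.sys.mem_of_acts_one hEb)
  · refine D.frame.sys.acts_unique (length_pw hE.1 5) rfl ?_ D.frame.sys.acts_one
    have := acts_pow D.frame.sys hE.1 hEb 5
    rwa [h5] at this

theorem exists_gen : ∃ b ∈ B, b ≠ 1 ∧ ∀ c ∈ B, ∃ i : ℕ, i < 5 ∧ b ^ i = c := by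
  haveI : Fact (Nat.Prime 5) := ⟨by norm_num⟩
  obtain ⟨⟨b, hb⟩, hb1⟩ : ∃ b : B, b ≠ 1 := by
    haveI : Nontrivial B := Finite.one_lt_card_iff_nontrivial.1 (by rw [D.five.card]; norm_num)
    exact exists_ne 1
  have hb1' : b ≠ 1 := fun e => hb1 (Subtype.ext e)
  refine ⟨b, hb, hb1', fun c hc => ?_⟩
  have hz : Subgroup.zpowers b = B :=
    Subgroup.eq_of_le_of_card_ge (Subgroup.zpowers_le.2 hb)
      (by rw [Nat.card_zpowers, (D.five_elem hb hb1').1, D.five.card])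
  rw [← hz, ← (isOfFinOrder_of_finite b).mem_powers_iff_mem_zpowers] at hc
  obtain ⟨n, rfl⟩ := hc
  exact ⟨n % 5, Nat.mod_lt _ (by norm_num), by
    show b ^ (n % 5) = b ^ n
    rw [← (D.five_elem hb hb1').1, pow_mod_orderOf]⟩

theorem inter_BQ {b : G} (hb : b ∈ B) (hQ : b ∈ Q) : b = 1 :=
  by_contra fun h => (D.five_elem hb h).2.1 hQ

theorem pres_false {n : G} {A : List Nat} (hnB : ∀ b ∈ B, Commute b n) (hA : Acts z Q p n A) {w : Nat}
    (hw : w ∈ span false) : app A w ∈ span false := by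
  obtain ⟨a, ha, rfl⟩ := D.frame.sys.surj w (span_lt hw)
  rw [← hA.2 a ha]
  refine (D.memW _ (D.frame.sys.large.conj_mem hA.1 ha)).1 fun b hb => ?_
  exact ((hnB b hb).mul_right ((D.memW a ha).2 hw b hb)).mul_right (hnB b hb).inv_right

theorem pres_true {n : G} {A : List Nat} (hnB : ∀ b ∈ B, Commute b n) (hA : Iso A) (hAn : Acts z Q p n A)
    {u : Nat} (hu : u ∈ span true) : app A u ∈ span true := by
  refine mem_span.2 ⟨(hA.2 u (span_lt hu)).1, fun m hm => ?_⟩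
  obtain ⟨a, ha, hpa⟩ := D.frame.sys.surj m (basis_lt _ m hm).1
  set a' := n⁻¹ * a * n with ha'
  have ha'Q : a' ∈ Q := by
    have := D.frame.sys.large.conj_mem hAn.1.inv_left ha
    rwa [inv_inv] at this
  have hm' : p a' ∈ span false := by
    refine (D.memW _ ha'Q).1 fun b hb => ?_
    exact ((hnB b hb).inv_right.mul_right ((D.memW a ha).2 (hpa ▸ (basis_lt _ m hm).2) b hb)).mul_right (hnB b hb)
  have e : app A (p a') = m := by
    rw [← hAn.2 a' ha'Q, ← hpa, ha']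
    congr 1
    group
  rw [← e, hA.bb_app (span_lt hu) (span_lt hm')]
  exact span_perp (s := true) hu hm'

theorem mem_K_of_fix {n : G} {A : List Nat} (hnB : ∀ b ∈ B, Commute b n) (hAn : Acts z Q p n A)
    (hfix : ∀ u ∈ span true, app A u = u) : n ∈ Kgrp z Q p B := by
  refine mem_Kgrp.2 ⟨hAn.1, hnB, fun a ha hu => ?_⟩
  have h := D.frame.sys
  obtain ⟨b, hb, hb1, -⟩ := D.exists_gen
  obtain ⟨-, -, E, hE, -, hEb⟩ := D.five_elem hb hb1
  have h2 := List.all_eq_true.1 (List.all_eq_true.1 five_onto E hE) (p a) hu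
  simp only [Bool.and_eq_true, List.any_eq_true, beq_iff_eq] at h2
  obtain ⟨w, hw, hwu⟩ := h2.2
  obtain ⟨q, hq, rfl⟩ := h.surj w (span_lt hw)
  have hbz := D.five.comm b hb
  have hnq := h.large.conj_mem hAn.1 hq
  obtain ⟨i, ei⟩ := h.eq_of_p hq hnq (by rw [hAn.2 q hq, hfix _ hw])
  set q' := b * q * b⁻¹ with hq'
  have hq'Q : q' ∈ Q := h.large.conj_mem hbz hq
  have ei' : n * q' * n⁻¹ = q' * sg z i := by
    rw [hq', show n * (b * q * b⁻¹) * n⁻¹ = (n * b) * q * (b⁻¹ * n⁻¹) by group, ← (hnB b hb).eq,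
      ((hnB b hb).inv_inv).eq, show b * n * q * (n⁻¹ * b⁻¹) = b * (n * q * n⁻¹) * b⁻¹ by group, ei,
      show b * (q * sg z i) * b⁻¹ = b * q * b⁻¹ * (b * sg z i * b⁻¹) by group, (h.sg_comm hbz i).eq,
      mul_inv_cancel_right]
  have hr : n * (q * q') * n⁻¹ = q * q' := by
    rw [show n * (q * q') * n⁻¹ = (n * q * n⁻¹) * (n * q' * n⁻¹) by group, ei, ei',
      show q * sg z i * (q' * sg z i) = q * (sg z i * q') * sg z i by group,
      ← (h.sg_comm (h.large.commute_z hq'Q) i).eq,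
      show q * (q' * sg z i) * sg z i = q * q' * (sg z i * sg z i) by group, h.sg_mul, Bool.xor_self]
    exact mul_one _
  obtain ⟨j, ej⟩ := h.eq_of_p (Q.mul_mem hq hq'Q) ha (by rw [h.map_mul _ hq _ hq'Q, hEb.2 q hq, ← hwu])
  rw [ej]
  exact (Commute.mul_left (mul_inv_eq_iff_eq_mul.1 hr).symm (h.sg_comm hAn.1 j).symm)

theorem K_acts {c : G} (hc : c ∈ Kgrp z Q p B) : ∃ A ∈ even false, Acts z Q p c A := by
  obtain ⟨hcz, hcB, hcU⟩ := mem_Kgrp.1 hc
  obtain ⟨A, hA, hAc⟩ := D.frame.sys.exists_acts hcz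
  refine ⟨A, even_of_induced D.frame (mem_cand (s := false) hA fun n hn => ?_) hAc, hAc⟩
  obtain ⟨a, ha, rfl⟩ := D.frame.sys.surj n (basis_lt _ n hn).1
  rw [← hAc.2 a ha, ← (hcU a ha (basis_lt _ _ hn).2).eq, mul_inv_cancel_right]

theorem M_acts {c : G} (hc : c ∈ Mgrp z Q B) : ∃ A ∈ even true, Acts z Q p c A := by
  obtain ⟨hcz, hcW⟩ := D.mem_Mgrp.1 hc
  obtain ⟨A, hA, hAc⟩ := D.frame.sys.exists_acts hcz
  refine ⟨A, even_of_induced D.frame (mem_cand (s := true) hA fun n hn => ?_) hAc, hAc⟩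
  obtain ⟨a, ha, rfl⟩ := D.frame.sys.surj n (basis_lt _ n hn).1
  rw [← hAc.2 a ha, ← (hcW a ha (basis_lt _ _ hn).2).eq, mul_inv_cancel_right]

theorem decompose {n : G} (hnz : Commute n z) (hnB : ∀ b ∈ B, Commute b n) :
    ∃ b ∈ B, n * b⁻¹ ∈ Kgrp z Q p B := by
  have h := D.frame.sys
  obtain ⟨b, hb, hb1, -⟩ := D.exists_gen
  obtain ⟨-, -, E, hE, hEc, hEb⟩ := D.five_elem hb hb1
  obtain ⟨hEI, hEf⟩ := cand_spec hEc
  obtain ⟨A, hA, hAn⟩ := h.exists_acts hnz
  have hp : ∀ u ∈ basis true, app A u ∈ span true := fun u hu => D.pres_true hnB hA hAn (basis_lt _ u hu).2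
  set A2 := mkSide true (app A ((basis true).getD 0 0)) (app A ((basis true).getD 1 0))
    (app A ((basis true).getD 2 0)) (app A ((basis true).getD 3 0)) with hA2def
  have hA2 : A2 ∈ cand true := mkSide_mem hA hp
  have agree : ∀ u ∈ span true, app A2 u = app A u := fun u hu =>
    span_subset (P := fun u => app A2 u = app A u) (by rw [app_zero, app_zero])
      (fun x y ex ey => by rw [app_xor, app_xor, ex, ey]) (fun x hx => by
        obtain ⟨-, i0, i1, i2, i3⟩ := app_mkSide true (app A ((basis true).getD 0 0))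
          (app A ((basis true).getD 1 0)) (app A ((basis true).getD 2 0)) (app A ((basis true).getD 3 0))
        rcases getD_cases hx with rfl | rfl | rfl | rfl
        exacts [i0, i1, i2, i3]) hu
  have hAE : comp A E = comp E A := by
    refine h.acts_unique (by rw [length_comp, hEI.1]) (by rw [length_comp, hA.1]) (h.acts_mul hEI.1 hAn hEb) ?_
    have := h.acts_mul hA.1 hEb hAn
    rwa [(hnB b hb).eq] at this
  have hcom := List.all_eq_true.1 (List.all_eq_true.1 five_commutant A2 hA2) E hE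
  simp only [Bool.or_eq_true, Bool.not_eq_true', List.all_eq_false, beq_iff_eq] at hcom
  have hi : ∃ i : ℕ, A2 = pw E i := by
    rcases hcom with ((((hc | hc) | hc) | hc) | hc) | hc
    · obtain ⟨u, hu, hne⟩ := hc
      refine absurd ?_ hne
      have hu' := (basis_lt true u hu).2
      have hEu : app E u ∈ span true := D.pres_true
        (n := b) (fun c hc => by
          obtain ⟨b', hb', -, hgen⟩ := D.exists_gen
          obtain ⟨i, -, rfl⟩ := hgen c hc
          obtain ⟨j, -, rfl⟩ := hgen b hb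
          exact (Commute.refl b').pow_pow i j) hEI hEb hu'
      rw [agree _ hEu, agree _ hu', ← app_comp hEI.1, ← app_comp hA.1, hAE]
    · exact ⟨0, hc⟩
    · refine ⟨1, hc.trans (comp_app_congr hEI.1 (length_pw hEI.1 1) fun n hn => ?_)⟩
      show app E n = app (comp E one) n
      rw [app_comp (show one.length = 8 from rfl), app_one n hn]
    · exact ⟨2, hc⟩
    · exact ⟨3, hc⟩
    · exact ⟨4, hc⟩
  obtain ⟨i, hi⟩ := hi
  refine ⟨b ^ i, pow_mem hb i, ?_⟩
  have hbi := acts_pow h hEI.1 hEb i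
  obtain ⟨A', hA', hA'n⟩ := h.exists_acts (hnz.mul_left (D.five.comm _ (pow_mem hb i)).inv_left)
  refine D.mem_K_of_fix (fun c hc => (hnB c hc).mul_right ?_) hA'n fun u hu => ?_
  · obtain ⟨b', hb', -, hgen⟩ := D.exists_gen
    obtain ⟨j, -, rfl⟩ := hgen c hc
    obtain ⟨l, -, hl⟩ := hgen b hb
    rw [← hl]
    exact (((Commute.refl b').pow_pow j l).pow_right i).inv_right
  · obtain ⟨a, ha, rfl⟩ := h.surj u (span_lt hu)
    set a' := (b ^ i)⁻¹ * a * b ^ i with ha'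
    have ha'Q : a' ∈ Q := by
      have := h.large.conj_mem hbi.1.inv_left ha
      rwa [inv_inv] at this
    have e : app (pw E i) (p a') = p a := by
      rw [← hbi.2 a' ha'Q, ha']
      congr 1
      group
    have hv : p a' ∈ span true := by
      refine mem_span.2 ⟨h.lt _ ha'Q, fun m hm => ?_⟩
      have hI : Iso (pw E i) := by
        obtain ⟨X, hX, hXb⟩ := h.exists_acts hbi.1
        exact h.acts_unique hX.1 (length_pw hEI.1 i) hXb hbi ▸ hX
      have hfixm : app (pw E i) m = m := by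
        obtain ⟨c, hc, rfl⟩ := h.surj m (basis_lt _ m hm).1
        rw [← hbi.2 c hc, ((D.memW c hc).2 (basis_lt _ _ hm).2 _ (pow_mem hb i)).eq, mul_inv_cancel_right]
      have := hI.bb_app (h.lt _ ha'Q) (basis_lt _ m hm).1
      rw [e, hfixm] at this
      rw [← this]
      exact (mem_span.1 hu).2 m hm
    rw [← hA'n.2 a ha, show n * (b ^ i)⁻¹ * a * (n * (b ^ i)⁻¹)⁻¹ = n * a' * n⁻¹ by rw [ha']; group,
      hAn.2 a' ha'Q, ← agree _ hv, hi, e]

theorem Q_K {a : G} (ha : a ∈ Q) : a ∈ Kgrp z Q p B ↔ p a ∈ span false := by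
  rw [mem_Kgrp]
  refine ⟨fun h => (D.memW a ha).1 h.2.1, fun hp => ⟨D.frame.sys.large.commute_z ha, (D.memW a ha).2 hp,
    fun c hc hu => (D.frame.sys.commute_iff hc ha).2 (span_perp (s := true) hu hp)⟩⟩

theorem Q_M {a : G} (ha : a ∈ Q) : a ∈ Mgrp z Q B ↔ p a ∈ span true := by
  rw [D.mem_Mgrp]
  refine ⟨fun h => mem_span.2 ⟨D.frame.sys.lt a ha, fun m hm => ?_⟩, fun hp => ⟨D.frame.sys.large.commute_z ha,
    fun c hc hw => (D.frame.sys.commute_iff hc ha).2 (span_perp (s := false) hw hp)⟩⟩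
  obtain ⟨c, hc, rfl⟩ := D.frame.sys.surj m (basis_lt _ m hm).1
  rw [bb_comm]
  exact (D.frame.sys.commute_iff hc ha).1 (h.2 c hc (basis_lt _ _ hm).2)

theorem lift_M {A : List Nat} (hA : A ∈ even true) : ∃ c ∈ Mgrp z Q B, Acts z Q p c A := by
  have h := D.frame.sys
  obtain ⟨hAc, c, hc⟩ := even_acts h hA
  obtain ⟨hAI, hAf⟩ := cand_spec hAc
  have sgn : ∀ n ∈ basis false, ∃ a ∈ Q, p a = n ∧ ∃ i, c * a * c⁻¹ = a * sg z i := fun n hn => by
    obtain ⟨a, ha, rfl⟩ := h.surj n (basis_lt _ n hn).1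
    exact ⟨a, ha, rfl, h.eq_of_p ha (h.large.conj_mem hc.1 ha) (by rw [hc.2 a ha, hAf _ (basis_lt _ _ hn).2])⟩
  obtain ⟨a1, ha1, hp1, i1, e1⟩ := sgn 1 (by decide)
  obtain ⟨a2, ha2, hp2, i2, e2⟩ := sgn 2 (by decide)
  obtain ⟨a3, ha3, hp3, i3, e3⟩ := sgn 12 (by decide)
  obtain ⟨a4, ha4, hp4, i4, e4⟩ := sgn 52 (by decide)
  obtain ⟨w, hw, hw'⟩ := List.any_eq_true.1 (functional i1 i2 i3 i4)
  simp only [Bool.and_eq_true, beq_iff_eq] at hw'
  obtain ⟨⟨⟨w1, w2⟩, w3⟩, w4⟩ := hw'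
  obtain ⟨q, hq, rfl⟩ := h.surj w (span_lt hw)
  have hfix : ∀ {a : G} {i : Bool}, a ∈ Q → c * a * c⁻¹ = a * sg z i → bb (p q) (p a) = i → Commute a (c * q) := by
    intro a i ha e hb
    have e' : c * q * a * (c * q)⁻¹ = a := by
      rw [show c * q * a * (c * q)⁻¹ = c * (q * a * q⁻¹) * c⁻¹ by group, h.conj_eq ha hq, hb,
        show c * (a * sg z i) * c⁻¹ = c * a * c⁻¹ * (c * sg z i * c⁻¹) by group, e, (h.sg_comm hc.1 i).eq,
        mul_inv_cancel_right, mul_assoc, h.sg_mul, Bool.xor_self]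
      exact mul_one a
    exact (mul_inv_eq_iff_eq_mul.1 e').symm
  refine ⟨c * q, D.mem_Mgrp.2 ⟨hc.1.mul_left (h.large.commute_z hq), fun a ha hp => ?_⟩, ?_⟩
  · have hmem : ∀ x, x ∈ Subgroup.centralizer ({c * q} : Set G) ↔ Commute x (c * q) := fun x =>
      Subgroup.mem_centralizer_singleton_iff
    refine (hmem a).1 (gen_side h (s := false)
      ((hmem z).2 (hc.1.mul_left (h.large.commute_z hq)).symm) (fun n hn => ?_) ha hp)
    simp only [basis, List.mem_cons, List.not_mem_nil, or_false] at hn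
    rcases hn with rfl | rfl | rfl | rfl
    · exact ⟨a1, ha1, hp1, (hmem a1).2 (hfix ha1 e1 (hp1 ▸ w1))⟩
    · exact ⟨a2, ha2, hp2, (hmem a2).2 (hfix ha2 e2 (hp2 ▸ w2))⟩
    · exact ⟨a3, ha3, hp3, (hmem a3).2 (hfix ha3 e3 (hp3 ▸ w3))⟩
    · exact ⟨a4, ha4, hp4, (hmem a4).2 (hfix ha4 e4 (hp4 ▸ w4))⟩
  · have := h.acts_mul (show one.length = 8 from rfl) hc (h.acts_of_mem hq)
    rwa [show comp A one = A from comp_app_congr (by rw [length_comp]; rfl) hAI.1 fun n hn => by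
      rw [app_comp (show one.length = 8 from rfl), app_one n hn]] at this

theorem lift_K {A : List Nat} (hA : A ∈ even false) : ∃ c ∈ Kgrp z Q p B, Acts z Q p c A := by
  classical
  haveI : Fact (Nat.Prime 5) := ⟨by norm_num⟩
  have h := D.frame.sys
  obtain ⟨hAc, c, hc⟩ := even_acts h hA
  obtain ⟨hAI, hAf⟩ := cand_spec hAc
  -- the semidirect product of the group and `Q`
  let H : Subgroup G :=
    { carrier := {g | ∃ b ∈ B, b⁻¹ * g ∈ Q}
      one_mem' := ⟨1, B.one_mem, by simp⟩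
      mul_mem' := fun {u v} ⟨b, hb, hu⟩ ⟨b', hb', hv⟩ => ⟨b * b', B.mul_mem hb hb', by
        have := Q.mul_mem (h.large.conj_mem (D.five.comm b' hb').inv_left hu) hv
        rwa [show b'⁻¹ * (b⁻¹ * u) * b'⁻¹⁻¹ * (b'⁻¹ * v) = (b * b')⁻¹ * (u * v) by group] at this⟩
      inv_mem' := fun {u} ⟨b, hb, hu⟩ => ⟨b⁻¹, B.inv_mem hb, by
        have := h.large.conj_mem (D.five.comm b hb) (Q.inv_mem hu)
        rwa [show b * (b⁻¹ * u)⁻¹ * b⁻¹ = b⁻¹⁻¹ * u⁻¹ by group] at this⟩ }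
  have hH : ∀ g, g ∈ H ↔ ∃ b ∈ B, b⁻¹ * g ∈ Q := fun g => Iff.rfl
  have hBH : B ≤ H := fun b hb => (hH b).2 ⟨b, hb, by simp⟩
  have hcardH : Nat.card H = 5 * 512 := by
    let f : B × Q → H := fun x => ⟨(x.1 : G) * x.2, (hH _).2 ⟨x.1, x.1.2, by simp⟩⟩
    have hf : Function.Bijective f := by
      constructor
      · rintro ⟨⟨b, hb⟩, ⟨q, hq⟩⟩ ⟨⟨b', hb'⟩, ⟨q', hq'⟩⟩ e
        have e' : b * q = b' * q' := congrArg Subtype.val e
        have hbb : b'⁻¹ * b ∈ Q := by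
          rw [show b'⁻¹ * b = b'⁻¹ * (b * q) * q⁻¹ by group, e', inv_mul_cancel_left]
          exact Q.mul_mem hq' (Q.inv_mem hq)
        obtain rfl := inv_mul_eq_one.1 (D.inter_BQ (B.mul_mem (B.inv_mem hb') hb) hbb)
        obtain rfl := mul_left_cancel e'
        rfl
      · rintro ⟨g, hg⟩
        obtain ⟨b, hb, hbg⟩ := (hH g).1 hg
        exact ⟨⟨⟨b, hb⟩, ⟨_, hbg⟩⟩, Subtype.ext (mul_inv_cancel_left b g)⟩
    rw [← Nat.card_eq_of_bijective f hf, Nat.card_prod, D.five.card, h.card]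
  have hcB : ∀ b ∈ B, b⁻¹ * (c * b * c⁻¹) ∈ Q := by
    intro b hb
    by_cases hb1 : b = 1
    · simp [hb1]
    obtain ⟨-, -, E, hE, hEc, hEb⟩ := D.five_elem hb hb1
    obtain ⟨hEI, -⟩ := cand_spec hEc
    exact h.inv_mul_mem hEb (h.acts_conj hAI.1 hEI.1 hEI.1 hc hEb (cross_comm hAc hEc))
  have hcBH : B.map (MulAut.conj c).toMonoidHom ≤ H := by
    rintro _ ⟨b, hb, rfl⟩
    exact (hH _).2 ⟨b, hb, hcB b hb⟩
  have syl : ∀ S : Subgroup G, S ≤ H → Nat.card S = 5 → ∃ P : Sylow 5 H, (P : Subgroup H) = S.subgroupOf H := by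
    intro S hS hS5
    have hcS : Nat.card (S.subgroupOf H) = 5 := by rw [Nat.card_congr (Subgroup.subgroupOfEquivOfLe hS).toEquiv, hS5]
    refine ⟨(IsPGroup.of_card (n := 1) (hcS.trans (pow_one 5).symm)).toSylow ?_, rfl⟩
    intro hdvd
    have e := (S.subgroupOf H).card_mul_index
    rw [hcS, hcardH] at e
    have : (S.subgroupOf H).index = 512 := by omega
    rw [this] at hdvd
    norm_num at hdvd
  obtain ⟨P1, hP1⟩ := syl B hBH D.five.card
  obtain ⟨P2, hP2⟩ := syl _ hcBH (by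
    rw [← Nat.card_congr ((B.equivMapOfInjective _ (MulAut.conj c).injective).toEquiv), D.five.card])
  obtain ⟨⟨g, hg⟩, hgP⟩ := MulAction.exists_smul_eq H P2 P1
  obtain ⟨b0, hb0, hq⟩ := (hH g).1 hg
  set q := b0⁻¹ * g with hqdef
  have hconj : ∀ b ∈ B, q * c * b * (q * c)⁻¹ ∈ B := by
    intro b hb
    have hm : (⟨c * b * c⁻¹, hcBH ⟨b, hb, rfl⟩⟩ : H) ∈ (P2 : Subgroup H) := by
      rw [hP2, Subgroup.mem_subgroupOf]; exact ⟨b, hb, rfl⟩
    have : (⟨g, hg⟩ : H) * ⟨c * b * c⁻¹, hcBH ⟨b, hb, rfl⟩⟩ * (⟨g, hg⟩ : H)⁻¹ ∈ (P1 : Subgroup H) := by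
      rw [← hgP, Sylow.coe_subgroup_smul]
      exact ⟨_, hm, rfl⟩
    rw [hP1, Subgroup.mem_subgroupOf] at this
    have h3 := B.mul_mem (B.mul_mem (B.inv_mem hb0) this) hb0
    rwa [show b0⁻¹ * ((⟨g, hg⟩ : H) * ⟨c * b * c⁻¹, hcBH ⟨b, hb, rfl⟩⟩ * (⟨g, hg⟩ : H)⁻¹ : H) * b0 =
      q * c * b * (q * c)⁻¹ by simp [hqdef, mul_assoc]] at h3
  have hcomm : ∀ b ∈ B, Commute b (q * c) := by
    intro b hb
    have hQ : b⁻¹ * (q * c * b * (q * c)⁻¹) ∈ Q := by
      rw [show b⁻¹ * (q * c * b * (q * c)⁻¹) = b⁻¹ * q * b⁻¹⁻¹ * (b⁻¹ * (c * b * c⁻¹)) * q⁻¹ by group]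
      exact Q.mul_mem (Q.mul_mem (h.large.conj_mem (D.five.comm b hb).inv_left hq) (hcB b hb)) (Q.inv_mem hq)
    have e := D.inter_BQ (B.mul_mem (B.inv_mem hb) (hconj b hb)) hQ
    exact (mul_inv_eq_iff_eq_mul.1 (inv_mul_eq_one.1 e).symm).symm
  have hact : Acts z Q p (q * c) A := by
    have := h.acts_mul hAI.1 (h.acts_of_mem hq) hc
    rwa [show comp one A = A from comp_app_congr (by rw [length_comp]; exact hAI.1) hAI.1 fun n hn => by
      rw [app_comp hAI.1, app_one _ (hAI.2 n hn).1]] at this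
  exact ⟨q * c, D.mem_K_of_fix hcomm hact hAf, hact⟩

theorem exists_quot_K : ∃ π : Kgrp z Q p B →* alternatingGroup (Fin 5), Function.Surjective π ∧
    ∀ c : Kgrp z Q p B, π c = 1 ↔ (c : G) ∈ Q :=
  exists_quot D.frame false _ (fun c hc => (mem_Kgrp.1 hc).1) (fun c hc => D.K_acts hc) (fun A hA => D.lift_K hA)

theorem exists_quot_M : ∃ π : Mgrp z Q B →* alternatingGroup (Fin 5), Function.Surjective π ∧
    ∀ c : Mgrp z Q B, π c = 1 ↔ (c : G) ∈ Q :=
  exists_quot D.frame true _ (fun c hc => (D.mem_Mgrp.1 hc).1) (fun c hc => D.M_acts hc) (fun A hA => D.lift_M hA)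

theorem inter_BK {b : G} (hb : b ∈ B) (hK : b ∈ Kgrp z Q p B) : b = 1 := by
  by_contra hb1
  obtain ⟨-, -, E, hE, -, hEb⟩ := D.five_elem hb hb1
  obtain ⟨a, ha, hpa⟩ := D.frame.sys.surj 28 (by norm_num)
  have h1 := hEb.2 a ha
  rw [← ((mem_Kgrp.1 hK).2.2 a ha (hpa ▸ (basis_lt true 28 (by decide)).2)).eq, mul_inv_cancel_right, hpa] at h1
  have h2 := List.all_eq_true.1 (List.all_eq_true.1 five_onto E hE) 28 (basis_lt true 28 (by decide)).2
  simp [← h1] at h2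

/-- The two sides commute. -/
theorem K_M_comm {c m : G} (hc : c ∈ Kgrp z Q p B) (hm : m ∈ Mgrp z Q B) :
    ∃ i, m * c * m⁻¹ = c * sg z i := by
  have h := D.frame.sys
  obtain ⟨A, hA, hAc⟩ := D.K_acts hc
  obtain ⟨E, hE, hEm⟩ := D.M_acts hm
  have hAcand := (even_acts h hA).1
  have hEcand := (even_acts h hE).1
  obtain ⟨hAI, hAf⟩ := cand_spec hAcand
  obtain ⟨hEI, hEf⟩ := cand_spec hEcand
  obtain ⟨hcz, hcB, hcU⟩ := mem_Kgrp.1 hc
  obtain ⟨hmz, hmW⟩ := D.mem_Mgrp.1 hm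
  have hconj := h.acts_conj hEI.1 hAI.1 hAI.1 hEm hAc (cross_comm hAcand hEcand).symm
  set e := c⁻¹ * (m * c * m⁻¹) with he
  have heQ : e ∈ Q := h.inv_mul_mem hAc hconj
  have hmcW : ∀ a ∈ Q, p a ∈ span false → Commute a e := by
    intro a ha hw
    have hca : p (c * a * c⁻¹) ∈ span false :=
      (D.memW _ (h.large.conj_mem hcz ha)).1 fun b hb =>
        ((hcB b hb).mul_right ((D.memW a ha).2 hw b hb)).mul_right (hcB b hb).inv_right
    have h1 := hmW _ (h.large.conj_mem hcz ha) hca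
    have h2 : Commute a (c⁻¹ * m * c) := by
      have := (LargeData.commute_conj_iff' (g := c⁻¹)).2 h1
      rwa [show c⁻¹ * (c * a * c⁻¹) * c⁻¹⁻¹ = a by group, inv_inv] at this
    rw [he, show c⁻¹ * (m * c * m⁻¹) = c⁻¹ * m * c * m⁻¹ by group]
    exact h2.mul_right (hmW a ha hw).inv_right
  have hmcU : ∀ a ∈ Q, p a ∈ span true → Commute a e := by
    intro a ha hu
    have hma : p (m⁻¹ * a * m) ∈ span true := by
      have haM := (D.Q_M ha).2 hu
      have := (Mgrp z Q B).mul_mem ((Mgrp z Q B).mul_mem ((Mgrp z Q B).inv_mem hm) haM) hm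
      refine (D.Q_M ?_).1 this
      have := h.large.conj_mem hmz.inv_left ha
      rwa [inv_inv] at this
    have hmaQ : m⁻¹ * a * m ∈ Q := by
      have := h.large.conj_mem hmz.inv_left ha
      rwa [inv_inv] at this
    have h2 : Commute a (m * c * m⁻¹) := by
      have := (LargeData.commute_conj_iff' (g := m)).2 (hcU _ hmaQ hma)
      rwa [show m * (m⁻¹ * a * m) * m⁻¹ = a by group] at this
    rw [he]
    exact (hcU a ha hu).inv_right.mul_right h2
  have hp0 : p e = 0 := by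
    have hperp : ∀ n < 256, bb (p e) n = false := fun n hn =>
      full_induction (P := fun n => bb (p e) n = false) (bb_zero _)
        (fun x y ex ey => by rw [bb_xor_right, ex, ey]; rfl) (fun x hx => by
          obtain ⟨a, ha, rfl⟩ := h.surj x (by revert x; decide)
          refine (h.commute_iff heQ ha).1 ?_
          rcases allBasis_cases hx with h' | h'
          · exact (hmcW a ha (basis_lt _ _ h').2).symm
          · exact (hmcU a ha (basis_lt _ _ h').2).symm) hn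
    have := List.all_eq_true.1 (show ((List.range 256).all fun n => n == 0 ||
      one.any fun y => bb n y) = true by decide +kernel) (p e) (List.mem_range.2 (h.lt e heQ))
    simp only [Bool.or_eq_true, beq_iff_eq, List.any_eq_true] at this
    rcases this with e0 | ⟨y, hy, hey⟩
    · exact e0
    · rw [hperp y (one_lt y hy)] at hey; exact absurd hey (by decide)
  rcases h.ker e heQ hp0 with e1 | e1
  · exact ⟨false, by rw [show sg z false = 1 from rfl, mul_one, ← inv_mul_eq_one.1 e1]⟩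
  · exact ⟨true, by rw [show sg z true = z from rfl, ← e1, he, mul_inv_cancel_left]⟩

/-- Elements of the second side centralize the first. -/
theorem commute_K_M {c m : G} (hc : c ∈ Kgrp z Q p B) (hm : m ∈ Mgrp z Q B) : Commute m c := by
  have h := D.frame.sys
  obtain ⟨π, hπ, hker⟩ := D.exists_quot_M
  let S : Subgroup (Mgrp z Q B) := (Subgroup.centralizer ({c} : Set G)).subgroupOf (Mgrp z Q B)
  have hcz := (mem_Kgrp.1 hc).1
  suffices hS : ∀ x : Mgrp z Q B, x ∈ S by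
    exact Subgroup.mem_centralizer_singleton_iff.1 (Subgroup.mem_subgroupOf.1 (hS ⟨m, hm⟩))
  have hcom : ∀ u v : Mgrp z Q B, u * v * u⁻¹ * v⁻¹ ∈ S := by
    intro u v
    obtain ⟨i, ei⟩ := D.K_M_comm hc u.2
    obtain ⟨j, ej⟩ := D.K_M_comm hc v.2
    obtain ⟨i', ei'⟩ := D.K_M_comm hc (u⁻¹).2
    obtain ⟨j', ej'⟩ := D.K_M_comm hc (v⁻¹).2
    refine Subgroup.mem_subgroupOf.2 (Subgroup.mem_centralizer_singleton_iff.2 ?_)
    have step : ∀ {g : G} {i : Bool} (r : Bool), Commute g z → g * c * g⁻¹ = c * sg z i →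
        g * (c * sg z r) * g⁻¹ = c * sg z (i ^^ r) := by
      intro g i r hg e
      rw [show g * (c * sg z r) * g⁻¹ = g * c * g⁻¹ * (g * sg z r * g⁻¹) by group, e, (h.sg_comm hg r).eq,
        mul_inv_cancel_right, mul_assoc, h.sg_mul]
    have hu := (D.mem_Mgrp.1 u.2).1
    have hv := (D.mem_Mgrp.1 v.2).1
    rw [InvMemClass.coe_inv] at ei' ej'
    have inv_eq : ∀ {g : G} {i i' : Bool}, Commute g z → g * c * g⁻¹ = c * sg z i →
        g⁻¹ * c * g⁻¹⁻¹ = c * sg z i' → i = i' := by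
      intro g i i' hg e e'
      have := step i hg.inv_left e'
      rw [← e, show g⁻¹ * (g * c * g⁻¹) * g⁻¹⁻¹ = c by group] at this
      have h0 : sg z (i' ^^ i) = sg z false := by
        rw [show sg z false = 1 from rfl]
        exact (left_eq_mul.1 this)
      have := h.sg_inj h0
      revert this
      cases i <;> cases i' <;> decide
    obtain rfl := inv_eq hu ei ei'
    obtain rfl := inv_eq hv ej ej'
    show ((u * v * u⁻¹ * v⁻¹ : Mgrp z Q B) : G) * c = c * ((u * v * u⁻¹ * v⁻¹ : Mgrp z Q B) : G)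
    simp only [Subgroup.coe_mul, InvMemClass.coe_inv]
    refine mul_inv_eq_iff_eq_mul.1 ?_
    calc (u : G) * v * (u : G)⁻¹ * (v : G)⁻¹ * c * ((u : G) * v * (u : G)⁻¹ * (v : G)⁻¹)⁻¹
        = (u : G) * (v * ((u : G)⁻¹ * ((v : G)⁻¹ * c * (v : G)⁻¹⁻¹) * (u : G)⁻¹⁻¹) * (v : G)⁻¹) * (u : G)⁻¹ := by
          group
      _ = c * sg z (i ^^ (j ^^ (i ^^ j))) := by
          rw [ej', step _ hu.inv_left ei', step _ hv ej, step _ hu ei]
      _ = c := by cases i <;> cases j <;> simp [sg]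
  have hkerS : ∀ x, π x = 1 → x ∈ S := by
    intro x hx
    have hxQ := (hker x).1 hx
    exact Subgroup.mem_subgroupOf.2 (Subgroup.mem_centralizer_singleton_iff.2
      ((mem_Kgrp.1 hc).2.2 _ hxQ ((D.Q_M hxQ).1 x.2)))
  intro x
  obtain ⟨b, c', hbc⟩ := alt_commutator (π x)
  obtain ⟨u, rfl⟩ := hπ b
  obtain ⟨v, rfl⟩ := hπ c'
  have h1 := hkerS ((u * v * u⁻¹ * v⁻¹)⁻¹ * x)
    (by rw [map_mul, map_inv, map_mul, map_mul, map_mul, map_inv, map_inv, ← hbc, inv_mul_cancel])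
  have := S.mul_mem (hcom u v) h1
  rwa [mul_inv_cancel_left] at this

end Adapted

end CfsgLib.Recog.CoOneFive
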