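import Cfsg.Agent.Lib.Recog.CoOneFive.Change
import Cfsg.Agent.Lib.Recog.CoOneType.Climb
import Cfsg.Prelude.Def_Transfer

/-!
A group of order five whose centralizer in `Q` is extraspecial of order 32 of minus type: a conjugate of `z`
there and an element centralizing the group that exchanges the two (owner: helper4).
-/

set_option autoImplicit false
set_option linter.unusedSectionVars false
set_option linter.unusedVariables false
set_option linter.style.haveILetI false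

namespace CfsgLib.Recog.CoOneFive

open CfsgLib.Recog.CoOneType CfsgLib.ThreeTrans

variable {G : Type*} [Group G] [Finite G] {z : G} {Q : Subgroup G}

/-- The hypotheses on the group of order five. -/
structure FiveHyp (z : G) (Q : Subgroup G) (B : Subgroup G) : Prop where
  hyp : Hyp z Q
  nwc : ∃ g : G, g * z * g⁻¹ ∈ Q ∧ g * z * g⁻¹ ≠ z
  card : Nat.card B = 5
  comm : ∀ b ∈ B, Commute b z
  extra : Cfsg.IsExtraspecial 2 ↥(Q ⊓ Subgroup.centralizer (B : Set G))
  cardQ : Nat.card ↥(Q ⊓ Subgroup.centralizer (B : Set G)) = 32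
  minus : ∀ A : Subgroup G, A ≤ Q ⊓ Subgroup.centralizer (B : Set G) → Cfsg.IsElementaryAbelian 2 A →
    Nat.card A ≤ 4

theorem mem_cent_iff {B : Subgroup G} {a : G} :
    a ∈ Subgroup.centralizer (B : Set G) ↔ ∀ b ∈ B, Commute b a :=
  Subgroup.mem_centralizer_iff

namespace FiveHyp

variable {B : Subgroup G} (h : FiveHyp z Q B)
include h

theorem z_mem : z ∈ Q ⊓ Subgroup.centralizer (B : Set G) :=
  ⟨h.hyp.large.z_mem, mem_cent_iff.2 h.comm⟩

/-- The image of the fixed group in the coordinates: sixteen numbers closed under addition. -/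
theorem exists_image {p : G → Nat} (hs : Sys z Q p) : ∃ l : List Nat, l.Nodup ∧ l.length = 16 ∧
    (∀ n ∈ l, n < 256) ∧ 0 ∈ l ∧ (∀ a b, a ∈ l → b ∈ l → a ^^^ b ∈ l) ∧
    ∀ a ∈ Q, ((∀ b ∈ B, Commute b a) ↔ p a ∈ l) := by
  classical
  set l := (List.range 256).filter fun n => decide (∃ a ∈ Q ⊓ Subgroup.centralizer (B : Set G), p a = n) with hl
  have hmem : ∀ n, n ∈ l ↔ n < 256 ∧ ∃ a ∈ Q ⊓ Subgroup.centralizer (B : Set G), p a = n := fun n => by
    simp only [hl, List.mem_filter, List.mem_range, decide_eq_true_eq]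
  have hiff : ∀ a ∈ Q, ((∀ b ∈ B, Commute b a) ↔ p a ∈ l) := by
    intro a ha
    rw [hmem]
    refine ⟨fun hc => ⟨hs.lt a ha, a, ⟨ha, mem_cent_iff.2 hc⟩, rfl⟩, ?_⟩
    rintro ⟨-, a', ha', e⟩
    obtain ⟨i, e'⟩ := hs.eq_of_p ha'.1 ha e
    intro b hb
    rw [e']
    exact (mem_cent_iff.1 ha'.2 b hb).mul_right (hs.sg_comm (h.comm b hb) i)
  have hnd : l.Nodup := List.nodup_range.filter _
  have hlt : ∀ n ∈ l, n < 256 := fun n hn => ((hmem n).1 hn).1
  refine ⟨l, hnd, ?_, hlt, ?_, ?_, hiff⟩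
  · have e := card_fibre hs hnd hlt
    have e' : Nat.card {a : G // a ∈ Q ∧ p a ∈ l} = Nat.card ↥(Q ⊓ Subgroup.centralizer (B : Set G)) :=
      Nat.card_congr (Equiv.subtypeEquivRight fun a => by
        rw [Subgroup.mem_inf, mem_cent_iff]
        exact ⟨fun ha => ⟨ha.1, (hiff a ha.1).2 ha.2⟩, fun ha => ⟨ha.1, (hiff a ha.1).1 ha.2⟩⟩)
    rw [e', h.cardQ] at e
    omega
  · exact (hmem 0).2 ⟨by norm_num, z, h.z_mem, hs.z0⟩
  · intro a b ha hb
    obtain ⟨ha', x, hx, rfl⟩ := (hmem a).1 ha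
    obtain ⟨hb', y, hy, rfl⟩ := (hmem b).1 hb
    exact (hmem _).2 ⟨lt_xor ha' hb', x * y, Subgroup.mul_mem _ hx hy, hs.map_mul x hx.1 y hy.1⟩

/-- A noncentral involution centralized by the group. -/
theorem exists_inner {p : G → Nat} (hs : Sys z Q p) :
    ∃ x ∈ Q, (∀ b ∈ B, Commute b x) ∧ x * x = 1 ∧ x ≠ 1 ∧ x ≠ z := by
  obtain ⟨l, hnd, hlen, hlt, h0, hx, hiff⟩ := h.exists_image hs
  have key : ∃ n ∈ l, n ≠ 0 ∧ qb n = false := by
    by_contra hc
    push Not at hc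
    have hq : ∀ n ∈ l, n ≠ 0 → qb n = true := fun n hn h1 => Bool.eq_true_of_not_eq_false (hc n hn h1)
    obtain ⟨a, ha, ha'⟩ := exists_out hnd [0] (by simp [hlen])
    obtain ⟨b, hb, hb'⟩ := exists_out hnd [0, a] (by simp [hlen])
    obtain ⟨c, hcl, hc'⟩ := exists_out hnd [0, a, b, a ^^^ b] (by simp [hlen])
    simp only [List.mem_cons, List.not_mem_nil, or_false, not_or] at ha' hb' hc'
    obtain ⟨hb0, hba⟩ := hb'
    obtain ⟨hc0, hca, hcb, hcab⟩ := hc'
    have pair : ∀ u v, u ∈ l → v ∈ l → u ≠ 0 → v ≠ 0 → u ≠ v → bb u v = true := by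
      intro u v hu hv hu0 hv0 huv
      show (qb (u ^^^ v) ^^ (qb u ^^ qb v)) = true
      rw [hq _ (hx u v hu hv) (fun e => huv (Nat.xor_eq_zero_iff.1 e)), hq u hu hu0, hq v hv hv0]
      rfl
    have e1 := pair a b ha hb ha' hb0 (Ne.symm hba)
    have e2 := pair a c ha hcl ha' hc0 (Ne.symm hca)
    have e3 := pair a (b ^^^ c) ha (hx b c hb hcl) ha' (fun e => hcb (Nat.xor_eq_zero_iff.1 e).symm)
      (fun e => hcab (by rw [e, Nat.xor_comm b c, Nat.xor_assoc, Nat.xor_self, Nat.xor_zero]))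
    rw [bb_xor_right, e1, e2] at e3
    exact absurd e3 (by decide)
  obtain ⟨n, hn, hn0, hnq⟩ := key
  obtain ⟨a, ha, rfl⟩ := hs.surj n (hlt n hn)
  refine ⟨a, ha, (hiff a ha).2 hn, ?_, fun e => hn0 (by rw [e, hs.p_one]), fun e => hn0 (by rw [e, hs.z0])⟩
  rw [hs.sq a ha, hnq]; rfl

/-- The centralizer of `z` and a noncentral involution of `Q` has five-part five. -/
theorem five_part {p : G → Nat} (hs : Sys z Q p) {x : G} (hx : x ∈ Q) (hxx : x * x = 1) (hx1 : x ≠ 1)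
    (hxz : x ≠ z) :
    ¬ 25 ∣ Nat.card (Subgroup.centralizer ({z} : Set G) ⊓ Subgroup.centralizer ({x} : Set G) : Subgroup G) := by
  have e := card_conj_orbit (Subgroup.centralizer ({z} : Set G)) x
  have horb : Nat.card (Set.range fun c : Subgroup.centralizer ({z} : Set G) => (c : G) * x * (c : G)⁻¹) = 270 := by
    have h1 : Nat.card {a : G // a ∈ Q ∧ p a ∈ sing} = 2 * sing.length :=
      card_fibre hs sing_len.2 fun n hn => (mem_sing.1 hn).1
    rw [sing_len.1] at h1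
    rw [← show (270 : ℕ) = 2 * 135 from rfl] at h1
    refine (Nat.card_congr (Equiv.subtypeEquivRight fun a => ?_)).trans h1
    constructor
    · rintro ⟨c, rfl⟩
      have hc : Commute (c : G) z := Subgroup.mem_centralizer_singleton_iff.1 c.2
      have hm := hs.large.conj_mem hc hx
      refine ⟨hm, mem_sing.2 ⟨hs.lt _ hm, fun e0 => ?_, ?_⟩⟩
      · rcases hs.ker _ hm e0 with e1 | e1
        · exact hx1 (conj_eq_one_iff.1 e1)
        · exact hxz (by
            calc x = (c : G)⁻¹ * ((c : G) * x * (c : G)⁻¹) * c := by group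
              _ = z := by rw [e1, mul_assoc, ← hc.eq, inv_mul_cancel_left])
      · exact hs.sg_inj ((hs.sq _ hm).symm.trans ((conj_sq_one hxx _).trans rfl))
    · rintro ⟨ha, hpa⟩
      obtain ⟨-, h0, hq⟩ := mem_sing.1 hpa
      obtain ⟨c, hc, hca⟩ := inner_trans hs hx hxx hx1 hxz ha (by rw [hs.sq a ha, hq]; rfl)
        (fun e0 => h0 (by rw [e0, hs.p_one])) (fun e0 => h0 (by rw [e0, hs.z0]))
      exact ⟨⟨c, Subgroup.mem_centralizer_singleton_iff.2 hc⟩, hca⟩
  rw [horb, hs.cardC] at e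
  intro h25
  obtain ⟨t, ht⟩ := h25
  rw [ht] at e
  omega

/-- The group is conjugate to itself by an element exchanging `z` and `x`, and then centralized by one. -/
theorem exists_swap {p : G → Nat} (hs : Sys z Q p) {x : G} (hx : x ∈ Q) (hxB : ∀ b ∈ B, Commute b x)
    (hxx : x * x = 1) (hx1 : x ≠ 1) (hxz : x ≠ z) :
    ∃ k : G, (∀ b ∈ B, Commute k b) ∧ k * z * k⁻¹ = x ∧ k * x * k⁻¹ = z := by
  classical
  haveI : Fact (Nat.Prime 5) := ⟨by norm_num⟩
  haveI : Fact (Nat.Prime 2) := ⟨Nat.prime_two⟩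
  have hzz := hs.large.mul_self_z
  -- an element exchanging `z` and `x`
  obtain ⟨p1, k1, F⟩ := h.hyp.exists_frame h.nwc
  obtain ⟨g, hg⟩ := isConj_iff.1 (F.inner hx hxx hx1 hxz)
  have hy : g⁻¹ * z * g ∈ Q := mem_conjMap.1 (hs.large.mem_conj (by rw [hs.card]; norm_num) (hg.symm ▸ hx))
  obtain ⟨d, hd, hdy⟩ := inner_trans hs hy (by
      have := conj_sq_one hzz g⁻¹
      rwa [inv_inv] at this)
    (fun e => hs.large.z_ne_one (by
      calc z = g * (g⁻¹ * z * g) * g⁻¹ := by group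
        _ = 1 := by rw [e]; group))
    (fun e => hxz (by
      rw [← hg]
      calc g * z * g⁻¹ = g * (g⁻¹ * z * g) * g⁻¹ := by rw [e]
        _ = z := by group))
    hx hxx hx1 hxz
  set h0 := g * d⁻¹ with hh0
  have e1 : h0 * z * h0⁻¹ = x := by
    rw [hh0, show g * d⁻¹ * z * (g * d⁻¹)⁻¹ = g * (d⁻¹ * z * d) * g⁻¹ by group, hd.inv_left.eq,
      inv_mul_cancel_right, hg]
  have e2 : h0 * x * h0⁻¹ = z := by
    rw [hh0, ← hdy]; group
  -- Sylow in the centralizer of both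
  set D := Subgroup.centralizer ({z} : Set G) ⊓ Subgroup.centralizer ({x} : Set G) with hD
  have memD : ∀ c, c ∈ D ↔ Commute c z ∧ Commute c x := fun c => by
    rw [hD, Subgroup.mem_inf, Subgroup.mem_centralizer_singleton_iff, Subgroup.mem_centralizer_singleton_iff]
    rfl
  have hBD : B ≤ D := fun b hb => (memD b).2 ⟨h.comm b hb, hxB b hb⟩
  have hB'D : B.map (MulAut.conj h0).toMonoidHom ≤ D := by
    rintro _ ⟨b, hb, rfl⟩
    refine (memD _).2 ⟨?_, ?_⟩
    · have := (LargeData.commute_conj_iff' (g := h0)).2 (hxB b hb)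
      rwa [e2] at this
    · have := (LargeData.commute_conj_iff' (g := h0)).2 (h.comm b hb)
      rwa [e1] at this
  have syl : ∀ S : Subgroup G, S ≤ D → Nat.card S = 5 → ∃ P : Sylow 5 D, (P : Subgroup D) = S.subgroupOf D := by
    intro S hS hS5
    have hc : Nat.card (S.subgroupOf D) = 5 := by rw [Nat.card_congr (Subgroup.subgroupOfEquivOfLe hS).toEquiv, hS5]
    refine ⟨(IsPGroup.of_card (n := 1) (hc.trans (pow_one 5).symm)).toSylow ?_, rfl⟩
    intro hdvd
    refine h.five_part hs hx hxx hx1 hxz ?_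
    rw [← (S.subgroupOf D).card_mul_index, hc]
    exact mul_dvd_mul_left 5 hdvd
  obtain ⟨P1, hP1⟩ := syl B hBD h.card
  obtain ⟨P2, hP2⟩ := syl _ hB'D (by
    rw [← Nat.card_congr ((B.equivMapOfInjective _ (MulAut.conj h0).injective).toEquiv), h.card])
  obtain ⟨⟨w, hw⟩, hwP⟩ := MulAction.exists_smul_eq D P2 P1
  set h1 := w * h0 with hh1
  have hmap : ∀ b ∈ B, h1 * b * h1⁻¹ ∈ B := by
    intro b hb
    have hm : (⟨h0 * b * h0⁻¹, hB'D ⟨b, hb, rfl⟩⟩ : D) ∈ (P2 : Subgroup D) := by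
      rw [hP2, Subgroup.mem_subgroupOf]
      exact ⟨b, hb, rfl⟩
    have : (⟨w, hw⟩ : D) * ⟨h0 * b * h0⁻¹, hB'D ⟨b, hb, rfl⟩⟩ * (⟨w, hw⟩ : D)⁻¹ ∈ (P1 : Subgroup D) := by
      rw [← hwP, Sylow.coe_subgroup_smul]
      exact ⟨_, hm, rfl⟩
    rw [hP1, Subgroup.mem_subgroupOf] at this
    rw [hh1, show w * h0 * b * (w * h0)⁻¹ = w * (h0 * b * h0⁻¹) * w⁻¹ by group]
    exact this
  have hmap' : ∀ b ∈ B, h1⁻¹ * b * h1 ∈ B := by
    intro b hb
    have heq : B.map (MulAut.conj h1).toMonoidHom = B := by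
      refine Subgroup.eq_of_le_of_card_ge (by rintro _ ⟨c, hc, rfl⟩; exact hmap c hc) ?_
      rw [← Nat.card_congr ((B.equivMapOfInjective _ (MulAut.conj h1).injective).toEquiv)]
    exact mem_conjMap.1 (heq.symm ▸ hb)
  have f1 : h1 * z * h1⁻¹ = x := by
    rw [hh1, show w * h0 * z * (w * h0)⁻¹ = w * (h0 * z * h0⁻¹) * w⁻¹ by group, e1,
      ((memD w).1 hw).2.eq, mul_inv_cancel_right]
  have f2 : h1 * x * h1⁻¹ = z := by
    rw [hh1, show w * h0 * x * (w * h0)⁻¹ = w * (h0 * x * h0⁻¹) * w⁻¹ by group, e2,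
      ((memD w).1 hw).1.eq, mul_inv_cancel_right]
  -- an element of the fixed group moving `x`
  obtain ⟨q, hq, hqx⟩ : ∃ q ∈ Q ⊓ Subgroup.centralizer (B : Set G), ¬ Commute q x := by
    by_contra hc
    push Not at hc
    have hxQ : x ∈ Q ⊓ Subgroup.centralizer (B : Set G) := ⟨hx, mem_cent_iff.2 hxB⟩
    have hxc : (⟨x, hxQ⟩ : ↥(Q ⊓ Subgroup.centralizer (B : Set G))) ∈
        Subgroup.center ↥(Q ⊓ Subgroup.centralizer (B : Set G)) :=
      Subgroup.mem_center_iff.2 fun a => Subtype.ext (hc a a.2).eq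
    have hzc : (⟨z, h.z_mem⟩ : ↥(Q ⊓ Subgroup.centralizer (B : Set G))) ∈
        Subgroup.center ↥(Q ⊓ Subgroup.centralizer (B : Set G)) :=
      Subgroup.mem_center_iff.2 fun a => Subtype.ext (hs.large.commute_z a.2.1).eq
    have h2 := h.extra.2
    haveI := Fintype.ofFinite ↥(Subgroup.center ↥(Q ⊓ Subgroup.centralizer (B : Set G)))
    rw [Nat.card_eq_fintype_card] at h2
    have h3 : Fintype.card ↥(Subgroup.center ↥(Q ⊓ Subgroup.centralizer (B : Set G))) ≥ 3 := by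
      refine Fintype.two_lt_card_iff.2 ⟨1, ⟨_, hxc⟩, ⟨_, hzc⟩, ?_, ?_, ?_⟩
      · exact fun e => hx1 (congrArg (fun t : ↥(Subgroup.center ↥(Q ⊓ Subgroup.centralizer (B : Set G))) =>
          ((t : ↥(Q ⊓ Subgroup.centralizer (B : Set G))) : G)) e).symm
      · exact fun e => hs.large.z_ne_one (congrArg
          (fun t : ↥(Subgroup.center ↥(Q ⊓ Subgroup.centralizer (B : Set G))) =>
            ((t : ↥(Q ⊓ Subgroup.centralizer (B : Set G))) : G)) e).symm
      · exact fun e => hxz (congrArg (fun t : ↥(Subgroup.center ↥(Q ⊓ Subgroup.centralizer (B : Set G))) =>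
          ((t : ↥(Q ⊓ Subgroup.centralizer (B : Set G))) : G)) e)
    omega
  have hqz := hs.large.commute_z hq.1
  have eq1 : q * x * q⁻¹ = x * z := by
    rw [hs.conj_eq hx hq.1]
    cases hb : bb (p q) (p x)
    · exact absurd ((hs.commute_iff hq.1 hx).2 hb) hqx
    · rfl
  have hzx : Commute z x := (hs.large.commute_z hx).symm
  set r := h1 * q * h1⁻¹ with hr
  have rB : ∀ b ∈ B, Commute r b := by
    intro b hb
    have := (LargeData.commute_conj_iff' (g := h1)).2 ((mem_cent_iff.1 hq.2 _ (hmap' b hb)).symm)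
    rwa [show h1 * (h1⁻¹ * b * h1) * h1⁻¹ = b by group] at this
  have rx : Commute r x := by
    have := (LargeData.commute_conj_iff' (g := h1)).2 hqz
    rwa [f1] at this
  have rz : r * z * r⁻¹ = z * x := by
    calc r * z * r⁻¹ = h1 * (q * x * q⁻¹) * h1⁻¹ := by rw [hr, ← f2]; group
      _ = (h1 * x * h1⁻¹) * (h1 * z * h1⁻¹) := by rw [eq1]; group
      _ = z * x := by rw [f1, f2]
  refine ⟨r * q * r⁻¹, fun b hb => ?_, ?_, ?_⟩
  · exact ((rB b hb).mul_left (mem_cent_iff.1 hq.2 b hb).symm).mul_left (rB b hb).inv_left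
  · have hrz : r⁻¹ * z * r = z * x := by
      have e3 : r * (z * x) * r⁻¹ = z := by
        rw [show r * (z * x) * r⁻¹ = r * z * r⁻¹ * (r * x * r⁻¹) by group, rz, rx.eq, mul_inv_cancel_right,
          mul_assoc, hxx, mul_one]
      calc r⁻¹ * z * r = r⁻¹ * (r * (z * x) * r⁻¹) * r := by rw [e3]
        _ = z * x := by group
    calc r * q * r⁻¹ * z * (r * q * r⁻¹)⁻¹ = r * (q * (r⁻¹ * z * r) * q⁻¹) * r⁻¹ := by group
      _ = r * (q * z * q⁻¹ * (q * x * q⁻¹)) * r⁻¹ := by rw [hrz]; group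
      _ = r * (z * (x * z)) * r⁻¹ := by rw [eq1, hqz.eq, mul_inv_cancel_right]
      _ = r * x * r⁻¹ := by rw [← mul_assoc z, hzx.eq, mul_assoc x, hzz, mul_one]
      _ = x := by rw [rx.eq, mul_inv_cancel_right]
  · calc r * q * r⁻¹ * x * (r * q * r⁻¹)⁻¹ = r * (q * (r⁻¹ * x * r) * q⁻¹) * r⁻¹ := by group
      _ = r * (x * z) * r⁻¹ := by rw [rx.inv_left.eq, inv_mul_cancel_right, eq1]
      _ = r * x * r⁻¹ * (r * z * r⁻¹) := by group
      _ = x * (z * x) := by rw [rz, rx.eq, mul_inv_cancel_right]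
      _ = z := by rw [hzx.eq, ← mul_assoc, hxx, one_mul]

end FiveHyp

end CfsgLib.Recog.CoOneFive
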